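import Cfsg.Agent.Lib.UnitaryFrameSix.Fix

/-!
Monomial elements fixing the vectors orthogonal to two given ones.
-/

set_option autoImplicit false
set_option linter.unusedSectionVars false

namespace Cfsg.Agent.Lib.UnitaryFrameSix

open Matrix Cfsg.Agent.Lib.Forms Cfsg.Agent.Lib.FormMax Cfsg.Agent.Lib.UnitaryMax

variable {F : Type*} [Field F] [Fintype F] {n q : ℕ}

local notation "Vs" => (Fin n → F)
local notation "h" => Cfsg.hermForm n F q

/-- A column. -/
abbrev col (g : GL (Fin n) F) (l : Fin n) : Vs := (g : Matrix (Fin n) (Fin n) F) *ᵥ Pi.single l 1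

theorem mapped_apply {u : GL (Fin n) F} {π : Fin n → Fin n} {c : Vs} (hπ : Function.Injective π)
    (hu : ∀ l, col u l = c l • Pi.single (π l) 1) (y : Vs) (l : Fin n) :
    ((u : Matrix (Fin n) (Fin n) F) *ᵥ y) (π l) = c l * y l := by
  classical
  rw [mulVec_eq_sum_col, Finset.sum_eq_single l (fun m _ hm => ?_) (by simp)]
  · show y l * col u l (π l) = _
    rw [hu, Pi.smul_apply, Pi.single_eq_same, smul_eq_mul, mul_one, mul_comm]
  · show y m * col u m (π l) = 0
    rw [hu, Pi.smul_apply, Pi.single_eq_of_ne (fun e => hm (hπ e).symm), smul_zero, mul_zero]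

theorem det_of_map {u : GL (Fin n) F} (σ : Equiv.Perm (Fin n)) {d : Vs}
    (hu : ∀ x m, ((u : Matrix (Fin n) (Fin n) F) *ᵥ x) m = d m * x (σ m)) :
    (u : Matrix (Fin n) (Fin n) F).det = (∏ m, d m) * ((Equiv.Perm.sign σ : ℤ) : F) := by
  classical
  rw [show (u : Matrix (Fin n) (Fin n) F) = Matrix.diagonal d * σ.permMatrix F from
    Matrix.ext_iff_mulVec.mpr fun x => funext fun m => by
      rw [hu, ← mulVec_mulVec, mulVec_diagonal, Matrix.permMatrix_mulVec]; rfl,
    det_mul, det_diagonal, Matrix.det_permutation]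

variable (hF : Fintype.card F = q ^ 2) {H : Subgroup (GL (Fin n) F)}
include hF

theorem mono_of_fix (hn : 6 ≤ n) (hq : 3 ≤ q) (hH : H ≤ suGL n F q) (hM : ContainsMono q H)
    (hK : H ≠ suGL n F q) {z : GL (Fin n) F} (hz : z ∈ H) {m : Fin n} {c : F}
    (hzm : col z m = c • Pi.single m 1) : IsMono z := by
  by_contra hn'
  exact hK (eq_suGL_of_fix hF hn hq hH hM hz hn' hzm)

theorem mono_of_zeros (hn : 6 ≤ n) (hq : 3 ≤ q) (hH : H ≤ suGL n F q) (hM : ContainsMono q H)
    (hK : H ≠ suGL n F q) {z : GL (Fin n) F} (hz : z ∈ H) {j a b : Fin n} (hab : a ≠ b)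
    (ha : col z j a = 0) (hb : col z j b = 0) : IsMono z := by
  classical
  by_contra hn'
  exact hK (eq_suGL_of_two_zeros hF hn hq hH hM hz hn' hab ha hb)

/-- A monomial element fixing the part of the orthogonal complement of two independent vectors inside four
coordinates fixes these four basis vectors. -/
theorem fixes_four {u : GL (Fin n) F} {π : Fin n → Fin n} {c : Vs} (hπ : Function.Injective π)
    (hc : ∀ l, c l ≠ 0) (hu : ∀ l, col u l = c l • Pi.single (π l) 1) {P K : Vs} {O : Finset (Fin n)}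
    (hO : O.card = 4) (hπO : ∀ l ∈ O, π l ∈ O)
    (hmin : ∀ a ∈ O, ∀ b ∈ O, a ≠ b → P a * K b - P b * K a ≠ 0)
    (hfix : ∀ y : Vs, (∀ l, l ∉ O → y l = 0) → h y P = 0 → h y K = 0 →
      (u : Matrix (Fin n) (Fin n) F) *ᵥ y = y) :
    ∀ l ∈ O, col u l = Pi.single l 1 := by
  classical
  have hq0 := q_ne_zero hF
  -- triples
  have htri : ∀ a ∈ O, ∀ b ∈ O, ∀ e ∈ O, a ≠ b → a ≠ e → b ≠ e →
      (π a = a ∨ π a = b ∨ π a = e) ∧ (π a = a → c a = 1) := by
    intro a ha b hb e he hab hae hbe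
    set y : Vs := Pi.single a ((P b * K e - P e * K b) ^ q) + Pi.single b ((P e * K a - P a * K e) ^ q) +
      Pi.single e ((P a * K b - P b * K a) ^ q) with hy
    have hya : y a = (P b * K e - P e * K b) ^ q := by simp [hy, hab, hae]
    have hya0 : y a ≠ 0 := by rw [hya]; exact pow_ne_zero _ (hmin b hb e he hbe)
    have hyo : ∀ l, l ≠ a → l ≠ b → l ≠ e → y l = 0 := fun l h1 h2 h3 => by simp [hy, h1, h2, h3]
    have hfy := hfix y (fun l hl => hyo l (fun e' => hl (e' ▸ ha)) (fun e' => hl (e' ▸ hb))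
        (fun e' => hl (e' ▸ he)))
      (by rw [hy]; simp only [herm_add_left hF, herm_single_left, q_sub hF, mul_pow]; ring)
      (by rw [hy]; simp only [herm_add_left hF, herm_single_left, q_sub hF, mul_pow]; ring)
    have h1 : c a * y a = y (π a) := by rw [← mapped_apply hπ hu, hfy]
    refine ⟨?_, fun e' => ?_⟩
    · by_contra hno
      simp only [not_or] at hno
      rw [hyo _ hno.1 hno.2.1 hno.2.2] at h1
      exact mul_ne_zero (hc a) hya0 h1
    · rw [e'] at h1
      exact mul_right_cancel₀ hya0 (by rw [h1, one_mul])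
  intro a ha
  obtain ⟨b, e, f, hbe, hbf, hef, hrest⟩ := Finset.card_eq_three.mp
    (show (O.erase a).card = 3 by rw [Finset.card_erase_of_mem ha, hO])
  have hb : b ∈ O.erase a := by rw [hrest]; simp
  have he : e ∈ O.erase a := by rw [hrest]; simp
  have hf : f ∈ O.erase a := by rw [hrest]; simp
  simp only [Finset.mem_erase] at hb he hf
  obtain ⟨h1, hc1⟩ := htri a ha b hb.2 e he.2 hb.1.symm he.1.symm hbe
  obtain ⟨h2, -⟩ := htri a ha b hb.2 f hf.2 hb.1.symm hf.1.symm hbf
  obtain ⟨h3, -⟩ := htri a ha e he.2 f hf.2 he.1.symm hf.1.symm hef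
  have hπa : π a = a := by
    rcases h1 with h1 | h1 | h1
    · exact h1
    · rcases h3 with h3 | h3 | h3
      · exact h3
      · exact absurd (h1.symm.trans h3) hbe
      · exact absurd (h1.symm.trans h3) hbf
    · rcases h2 with h2 | h2 | h2
      · exact h2
      · exact absurd (h2.symm.trans h1) hbe
      · exact absurd (h1.symm.trans h2) hef
  rw [hu, hπa, hc1 hπa, one_smul]

/-- Fixed combinations of two vectors. -/
theorem fixes_pair {u : GL (Fin n) F} {P K : Vs} {κ : F} (hκ : κ ≠ 0) {a b : Fin n}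
    (hmin : P a * K b - P b * K a ≠ 0)
    (ha : (u : Matrix (Fin n) (Fin n) F) *ᵥ (P a ^ q • P + (κ * K a ^ q) • K) = P a ^ q • P + (κ * K a ^ q) • K)
    (hb : (u : Matrix (Fin n) (Fin n) F) *ᵥ (P b ^ q • P + (κ * K b ^ q) • K) = P b ^ q • P + (κ * K b ^ q) • K) :
    (u : Matrix (Fin n) (Fin n) F) *ᵥ P = P ∧ (u : Matrix (Fin n) (Fin n) F) *ᵥ K = K := by
  set D := (P a * K b - P b * K a) ^ q with hD
  have hD0 : D ≠ 0 := pow_ne_zero _ hmin
  have eP : P = D⁻¹ • (K b ^ q • (P a ^ q • P + (κ * K a ^ q) • K) - K a ^ q • (P b ^ q • P + (κ * K b ^ q) • K)) := by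
    rw [eq_inv_smul_iff₀ hD0, hD, q_sub hF, mul_pow, mul_pow]; module
  have eK : K = (κ * D)⁻¹ • (P a ^ q • (P b ^ q • P + (κ * K b ^ q) • K) - P b ^ q • (P a ^ q • P + (κ * K a ^ q) • K)) := by
    rw [eq_inv_smul_iff₀ (mul_ne_zero hκ hD0), hD, q_sub hF, mul_pow, mul_pow]; module
  constructor
  · conv_lhs => rw [eP]
    rw [mulVec_smul, mulVec_sub, mulVec_smul, mulVec_smul,
      ha, hb, ← eP]
  · conv_lhs => rw [eK]
    rw [mulVec_smul, mulVec_sub, mulVec_smul, mulVec_smul,
      ha, hb, ← eK]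

end Cfsg.Agent.Lib.UnitaryFrameSix
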