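import Cfsg.Agent.Lib.UnitaryFrameSix.Select

/-!
Characteristic two: monomial transvections have monomial centralisers.
-/

set_option autoImplicit false
set_option linter.unusedSectionVars false

namespace Cfsg.Agent.Lib.UnitaryFrameSix

open Matrix Cfsg.Agent.Lib.Forms Cfsg.Agent.Lib.FormMax Cfsg.Agent.Lib.UnitaryMax

variable {F : Type*} [Field F] [Fintype F] [DecidableEq F] {n q : ℕ}

local notation "Vs" => (Fin n → F)
local notation "h" => Cfsg.hermForm n F q

variable (hF : Fintype.card F = q ^ 2) {H : Subgroup (GL (Fin n) F)}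
include hF

/-- A vector with two coordinates spans a line with monomial stabiliser. -/
theorem mono_of_eigen (hn : n = 6) (hq : 4 ≤ q) (h2 : (2 : F) = 0) (hH : H ≤ suGL n F q) (hM : ContainsMono q H)
    (hK : H ≠ suGL n F q) {w : GL (Fin n) F} (hw : w ∈ H) {i j : Fin n} (hij : i ≠ j) {θ : F}
    (hθ : θ * θ ^ q = 1) {lam : F}
    (hwx : (w : Matrix (Fin n) (Fin n) F) *ᵥ (Pi.single i 1 + Pi.single j θ) =
      lam • (Pi.single i 1 + Pi.single j θ)) : IsMono w := by
  classical
  have hn6 : 6 ≤ n := by omega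
  have hq3 : 3 ≤ q := by omega
  have hq0 := q_ne_zero hF
  set x : Vs := Pi.single i 1 + Pi.single j θ with hx
  have hlam : lam ≠ 0 := fun e => by
    have h1 := congrArg (((w⁻¹ : GL (Fin n) F) : Matrix (Fin n) (Fin n) F) *ᵥ ·) hwx
    simp only [inv_mulVec_mulVec, e, zero_smul, mulVec_zero] at h1
    have h3 := congrFun h1 i
    simp [hx, hij] at h3
  have hyx : ∀ y : Vs, h y x = y i + θ ^ q * y j := fun y => by
    rw [hx, herm_add_right hF, herm_single_right hq0, herm_single_right hq0, one_pow, mul_one, mul_comm (y j)]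
  obtain ⟨κ, hκ', hκ3⟩ : ∃ κ ∈ normOne q F, κ * κ * κ ≠ 1 := by
    by_contra hno
    push Not at hno
    have h1 := Finset.card_le_card (show normOne q F ⊆ (Polynomial.nthRoots 3 (1 : F)).toFinset from fun y hy => by
      rw [Multiset.mem_toFinset, Polynomial.mem_nthRoots (by omega)]; linear_combination hno y hy)
    have h4 := (Multiset.toFinset_card_le _).trans (Polynomial.card_nthRoots 3 (1 : F))
    rw [card_normOne hF] at h1
    omega
  have hκ := mem_normOne.mp hκ'
  set η := κ ^ q * κ ^ q with hη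
  have hηn : η * η ^ q = 1 := by
    rw [hη, mul_pow, pow_q_pow_q hF]; linear_combination (κ ^ q * κ + 1) * hκ
  set dd : Vs := fun l => if l = i ∨ l = j then η else κ with hdd
  obtain ⟨D, hD, -, -, hDx⟩ := exists_diagElt hM dd (fun l => by
      simp only [hdd]; split_ifs <;> assumption) (by
      rw [← Finset.prod_mul_prod_compl ({i, j} : Finset (Fin n)), Finset.prod_pair hij,
        Finset.prod_congr rfl (g := fun _ => κ) (fun l hl => by
          simp only [Finset.mem_compl, Finset.mem_insert, Finset.mem_singleton] at hl; simp [hdd, hl]),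
        Finset.prod_const, Finset.card_compl, Fintype.card_fin, Finset.card_pair hij, hn]
      simp [hdd, hη]
      linear_combination ((κ ^ q * κ) ^ 3 + (κ ^ q * κ) ^ 2 + (κ ^ q * κ) + 1) * hκ)
  have hηκ : η - κ ≠ 0 := sub_ne_zero.mpr fun e => hκ3 (by
    rw [hη] at e; linear_combination (-(κ * κ)) * e + (κ * κ ^ q + 1) * hκ)
  have hη0 : η ≠ 0 := left_ne_zero_of_mul_eq_one hηn
  refine (fun hcols => ?_ : (∀ l, l ≠ i → l ≠ j → col w l i = 0 ∧ col w l j = 0) → IsMono w) ?_
  · obtain ⟨l, -, hl⟩ := Finset.exists_mem_notMem_of_card_lt_card (s := ({i, j} : Finset (Fin n)))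
      (t := Finset.univ) (by rw [Finset.card_univ, Fintype.card_fin, Finset.card_pair hij]; omega)
    simp only [Finset.mem_insert, Finset.mem_singleton, not_or] at hl
    exact mono_of_zeros hF hn6 hq3 hH hM hK hw hij (hcols l hl.1 hl.2).1 (hcols l hl.1 hl.2).2
  intro l hli hlj
  set α := col w l i with hα
  have hperp : col w l i + θ ^ q * col w l j = 0 := by
    have h1 := apply_K (hH hw) (Pi.single l 1) x
    rw [hwx, herm_smul_right hF, herm_single_left, one_mul] at h1
    have hxl : x l = 0 := by simp [hx, hli, hlj]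
    rw [hxl, q_zero hF, hyx] at h1
    exact (mul_eq_zero.mp h1).resolve_left (pow_ne_zero _ hlam)
  have hαj : col w l j = θ * α := by
    linear_combination θ * hperp - (col w l j) * hθ - θ * α * h2
  by_cases hα0 : α = 0
  · exact ⟨hα0, by rw [hαj, hα0, mul_zero]⟩
  exfalso
  set W := w⁻¹ * (D⁻¹ * w * D) with hW
  set β := (κ / η - 1) * α / lam with hβ
  have hDl : (D : Matrix (Fin n) (Fin n) F) *ᵥ Pi.single l 1 = κ • Pi.single l 1 := funext fun m => by
    rw [hDx]
    rcases eq_or_ne m l with rfl | hm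
    · simp [hdd, hli, hlj]
    · simp [hm]
  have hmid : (D : Matrix (Fin n) (Fin n) F) *ᵥ (col w l + ((κ / η - 1) * α) • x) = κ • col w l := funext fun m => by
    rw [hDx, Pi.add_apply, Pi.smul_apply, Pi.smul_apply, smul_eq_mul, smul_eq_mul]
    rcases eq_or_ne m i with rfl | hmi
    · rw [show x m = 1 by simp [hx, hij], show dd m = η by simp [hdd], ← hα]
      field_simp; ring
    rcases eq_or_ne m j with rfl | hmj
    · rw [show x m = θ by simp [hx, hij.symm], show dd m = η by simp [hdd], hαj]
      field_simp; ring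
    · rw [show x m = 0 by simp [hx, hmi, hmj], show dd m = κ by simp [hdd, hmi, hmj]]
      ring
  have hinvx : ((w⁻¹ : GL (Fin n) F) : Matrix (Fin n) (Fin n) F) *ᵥ x = lam⁻¹ • x := by
    rw [eq_inv_smul_iff₀ hlam, ← mulVec_smul, ← hwx, inv_mulVec_mulVec]
  have hWl : col W l = Pi.single l 1 + β • x := by
    rw [col, hW, Units.val_mul, Units.val_mul, Units.val_mul, ← mulVec_mulVec, ← mulVec_mulVec, ← mulVec_mulVec,
      hDl, mulVec_smul,
      show (w : Matrix (Fin n) (Fin n) F) *ᵥ Pi.single l 1 = col w l from rfl, ← hmid, inv_mulVec_mulVec, mulVec_add,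
      mulVec_smul, hinvx, col, inv_mulVec_mulVec, smul_smul, hβ, div_eq_mul_inv (_ * α)]
  have hβ0 : β ≠ 0 := by
    refine div_ne_zero (mul_ne_zero (fun e => hηκ ?_) hα0) hlam
    field_simp at e
    linear_combination -e
  obtain ⟨a, ha, b, hb, hab⟩ := Finset.one_lt_card.mp (show 1 < (({i, j, l} : Finset (Fin n))ᶜ).card by
    rw [Finset.card_compl, Fintype.card_fin]
    have := Finset.card_le_three (a := i) (b := j) (c := l)
    omega)
  simp only [Finset.mem_compl, Finset.mem_insert, Finset.mem_singleton, not_or] at ha hb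
  have hWm : IsMono W := mono_of_zeros hF hn6 hq3 hH hM hK
    (H.mul_mem (H.inv_mem hw) (H.mul_mem (H.mul_mem (H.inv_mem hD) hw) hD)) hab (j := l)
    (by rw [hWl]; simp [hx, ha.1, ha.2.1, ha.2.2]) (by rw [hWl]; simp [hx, hb.1, hb.2.1, hb.2.2])
  obtain ⟨o, c, e⟩ := hWm l
  rw [show (W : Matrix (Fin n) (Fin n) F) *ᵥ Pi.single l 1 = col W l from rfl, hWl] at e
  have e1 := congrFun e l
  have e3 := congrFun e i
  simp [hx, hli, hlj, hij, hli.symm] at e1 e3
  rcases eq_or_ne i o with rfl | hio
  · simp [hli] at e1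
  · simp [hio] at e3
    exact hβ0 e3

/-- The image of a transvection axis has no zero coordinate. -/
theorem axis_ne_zero (hn : n = 6) (hq : 4 ≤ q) (h2 : (2 : F) = 0) (hH : H ≤ suGL n F q) (hM : ContainsMono q H)
    (hK : H ≠ suGL n F q) {g : GL (Fin n) F} (hg : g ∈ H) (hgm : ¬ IsMono g) {a b : Fin n} (hab : a ≠ b) {φ : F}
    (hφ : φ * φ ^ q = 1) (l : Fin n) : (col g a + φ • col g b) l ≠ 0 := by
  classical
  intro hl
  have hn6 : 6 ≤ n := by omega
  have hq3 : 3 ≤ q := by omega
  have hq0 := q_ne_zero hF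
  set x : Vs := Pi.single a 1 + Pi.single b φ with hx
  set p := col g a + φ • col g b with hp
  have hgx : (g : Matrix (Fin n) (Fin n) F) *ᵥ x = p := by
    rw [hx, hp, mulVec_add, col, col, ← mulVec_smul, ← Pi.single_smul, smul_eq_mul, mul_one]
  have hxx : h x x = 0 := by
    rw [hx]
    simp [herm_add_left hF, herm_single_left, hab, hab.symm]
    linear_combination hφ + h2
  have hpp : h p p = 0 := by rw [← hgx, apply_K (hH hg), hxx]
  obtain ⟨T, hT, -, hTm, hTx⟩ := exists_monoElt hM (Equiv.swap a b)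
    (Function.update (Function.update (fun _ => (1 : F)) a (φ ^ q)) b φ) (fun m => by
      rcases eq_or_ne m b with rfl | h1
      · simp [hφ]
      rcases eq_or_ne m a with rfl | h3
      · simp [hab, pow_q_pow_q hF, mul_comm (φ ^ q), hφ]
      · simp [h1, h3]) (by
      rw [Equiv.Perm.sign_swap hab, ← Finset.prod_subset (Finset.subset_univ ({a, b} : Finset (Fin n)))
        (fun m _ hm => by simp only [Finset.mem_insert, Finset.mem_singleton, not_or] at hm; simp [hm.1, hm.2]),
        Finset.prod_pair hab]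
      simp [hab]
      linear_combination -hφ - h2)
  have hTy : ∀ y : Vs, (T : Matrix (Fin n) (Fin n) F) *ᵥ y = y + h y x • x := fun y => by
    funext m
    rw [hTx, hx, herm_add_right hF, herm_single_right hq0, herm_single_right hq0, one_pow]
    rcases eq_or_ne m a with rfl | h1
    · simp [hab]; linear_combination -(y m) * h2
    rcases eq_or_ne m b with rfl | h3
    · simp [hab.symm]; linear_combination -(y m) * hφ - (y m) * h2
    · simp [h1, h3, Equiv.swap_apply_of_ne_of_ne h1 h3]
  set T' := g * T * g⁻¹ with hT'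
  have hT'y : ∀ y : Vs, (T' : Matrix (Fin n) (Fin n) F) *ᵥ y = y + h y p • p := fun y => by
    rw [hT', Units.val_mul, Units.val_mul, ← mulVec_mulVec, ← mulVec_mulVec, hTy, mulVec_add, mulVec_smul,
      mulVec_inv_mulVec, hgx]
    congr 2
    conv_rhs => rw [← mulVec_inv_mulVec g y, ← hgx, apply_K (hH hg)]
  have hT'm : IsMono T' := mono_of_fix hF hn6 hq3 hH hM hK (H.mul_mem (H.mul_mem hg hT) (H.inv_mem hg))
    (m := l) (c := 1) (by rw [col, hT'y, herm_single_left, hl, q_zero hF, mul_zero, zero_smul, add_zero, one_smul])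
  have hsupp : (supp p).card ≤ 2 := by
    by_contra hgt
    obtain ⟨m, hm⟩ := Finset.card_pos.mp (by omega : 0 < (supp p).card)
    obtain ⟨o, c, e⟩ := hT'm m
    obtain ⟨y, hy, hy'⟩ := Finset.exists_mem_notMem_of_card_lt_card (s := ({m, o} : Finset (Fin n))) (t := supp p)
      (by have := Finset.card_le_two (a := m) (b := o); omega)
    simp only [Finset.mem_insert, Finset.mem_singleton, not_or] at hy'
    rw [hT'y, herm_single_left, one_mul] at e
    have h1 := congrFun e y
    simp [hy'.1, hy'.2] at h1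
    rcases h1 with h1 | h1
    · exact mem_supp.mp hm (by simpa [hq0] using h1)
    · exact mem_supp.mp hy h1
  have hp0 : p ≠ 0 := fun e => by
    have h1 := congrArg (((g⁻¹ : GL (Fin n) F) : Matrix (Fin n) (Fin n) F) *ᵥ ·) hgx
    simp only [inv_mulVec_mulVec, e, mulVec_zero] at h1
    have := congrFun h1 a
    simp [hx, hab] at this
  obtain ⟨c, hc⟩ := Function.ne_iff.mp hp0
  obtain ⟨d, hdc, hd⟩ : ∃ d, d ≠ c ∧ p d ≠ 0 := by
    by_contra hno
    push Not at hno
    rw [Cfsg.hermForm, Finset.sum_eq_single c (fun m _ hm => by rw [hno m hm, zero_mul]) (by simp)] at hpp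
    exact mul_ne_zero hc (pow_ne_zero _ hc) hpp
  have ho : ∀ m, m ≠ c → m ≠ d → p m = 0 := fun m h1 h3 => by
    by_contra h4
    have := Finset.card_le_card (show ({c, d, m} : Finset (Fin n)) ⊆ supp p by
      intro y hy
      simp only [Finset.mem_insert, Finset.mem_singleton] at hy
      rcases hy with rfl | rfl | rfl <;> exact mem_supp.mpr (by assumption))
    rw [Finset.card_eq_three.mpr ⟨c, d, m, hdc.symm, h1.symm, h3.symm, rfl⟩] at this
    omega
  have hNcd : p c * p c ^ q = p d * p d ^ q := by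
    rw [Cfsg.hermForm, ← Finset.sum_subset (Finset.subset_univ ({c, d} : Finset (Fin n))) (fun m _ hm => by
      simp only [Finset.mem_insert, Finset.mem_singleton, not_or] at hm
      rw [ho m hm.1 hm.2, zero_mul]), Finset.sum_pair hdc.symm] at hpp
    linear_combination hpp - (p d * p d ^ q) * h2
  set σ := Equiv.swap (Equiv.swap a c b) d * Equiv.swap a c with hσ
  have hσa : σ a = c := by
    rw [hσ, Equiv.Perm.mul_apply, Equiv.swap_apply_left, Equiv.swap_apply_of_ne_of_ne]
    · intro e
      exact hab ((Equiv.swap a c).injective (by rw [Equiv.swap_apply_left]; exact e))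
    · exact hdc.symm
  have hσb : σ b = d := by rw [hσ, Equiv.Perm.mul_apply, Equiv.swap_apply_left]
  obtain ⟨o, -, ho'⟩ := Finset.exists_mem_notMem_of_card_lt_card (s := ({a, b} : Finset (Fin n)))
    (t := Finset.univ) (by rw [Finset.card_univ, Fintype.card_fin, Finset.card_pair hab]; omega)
  simp only [Finset.mem_insert, Finset.mem_singleton, not_or] at ho'
  set ψ := φ * p c / p d with hψ
  obtain ⟨m₀, hm₀, -, hm₀m, hm₀x, c', -, hm₀o⟩ := exists_phased hF hM σ o (Function.update (fun _ => (1 : F)) b ψ)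
    (fun m _ => by
      rcases eq_or_ne m b with rfl | hm
      · simp only [Function.update_self, hψ, div_pow, mul_pow]
        have := pow_ne_zero q hd
        field_simp
        linear_combination (p c * p c ^ q) * hφ + hNcd
      · simp [hm])
  refine hgm ?_
  have hw := mono_of_eigen hF hn hq h2 hH hM hK (H.mul_mem hm₀ hg) hab hφ (lam := p c) (by
    rw [Units.val_mul, ← mulVec_mulVec, hgx]
    funext m
    rcases eq_or_ne m o with rfl | hmo
    · rw [hm₀o, ho (σ m) (fun e => ho'.1 (σ.injective (e.trans hσa.symm)))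
        (fun e => ho'.2 (σ.injective (e.trans hσb.symm)))]
      simp [ho'.1, ho'.2]
    rw [hm₀x _ _ hmo]
    rcases eq_or_ne m a with rfl | hma
    · simp [hσa, hab]
    rcases eq_or_ne m b with rfl | hmb
    · simp [hσb, hab.symm, hψ]; field_simp
    · rw [ho (σ m) (fun e => hma (σ.injective (e.trans hσa.symm))) (fun e => hmb (σ.injective (e.trans hσb.symm)))]
      simp [hma, hmb])
  have := hm₀m.inv.mul hw
  rwa [inv_mul_cancel_left] at this

/-- Two transvections against one. -/
theorem false_of_even (hn : n = 6) (hq : 4 ≤ q) (h2 : (2 : F) = 0) (hH : H ≤ suGL n F q) (hM : ContainsMono q H)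
    (hK : H ≠ suGL n F q) {g : GL (Fin n) F} (hg : g ∈ H) {a b c d : Fin n} (hab : a ≠ b)
    (hac : a ≠ c) (had : a ≠ d) (hbc : b ≠ c) (hbd : b ≠ d) (hcd : c ≠ d) {φ : F} (hφ : φ * φ ^ q = 1)
    {O : Finset (Fin n)} (hO : O.card = 4)
    (hmin : ∀ x ∈ O, ∀ y ∈ O, x ≠ y → (col g a - φ • col g b) x * (col g c + col g d) y -
      (col g a - φ • col g b) y * (col g c + col g d) x ≠ 0) : False := by
  classical
  have hq0 := q_ne_zero hF
  obtain ⟨i, j, hij, hOc⟩ := Finset.card_eq_two.mp (show Oᶜ.card = 2 by rw [Finset.card_compl, Fintype.card_fin, hO, hn])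
  have hmemO : ∀ l, l ∈ O ↔ l ≠ i ∧ l ≠ j := fun l => by
    rw [← not_iff_not, ← Finset.mem_compl, hOc]; simp [or_iff_not_imp_left]
  set x : Vs := Pi.single i 1 + Pi.single j 1 with hx
  have hyx : ∀ y : Vs, h y x = y i + y j := fun y => by
    rw [hx, herm_add_right hF, herm_single_right hq0, herm_single_right hq0, one_pow, mul_one, mul_one]
  obtain ⟨z, hzH, -, -, hzx⟩ := exists_monoElt hM (Equiv.swap i j) (fun _ => (1 : F)) (fun _ => by simp) (by
    rw [Equiv.Perm.sign_swap hij]; simp; linear_combination -h2)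
  have hzy : ∀ y : Vs, (z : Matrix (Fin n) (Fin n) F) *ᵥ y = y + h y x • x := fun y => by
    funext m
    rw [hzx, hyx, hx]
    rcases eq_or_ne m i with rfl | h1
    · simp [hij]; linear_combination -(y m) * h2
    rcases eq_or_ne m j with rfl | h3
    · simp [hij.symm]; linear_combination -(y m) * h2
    · simp [h1, h3, Equiv.swap_apply_of_ne_of_ne h1 h3]
  set dt : Vs := Function.update (Function.update (fun _ => (1 : F)) a (φ ^ q)) b φ with hdt
  obtain ⟨t, htH, -, -, htx⟩ := exists_monoElt hM (Equiv.swap a b * Equiv.swap c d) dt (fun m => by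
      rcases eq_or_ne m b with rfl | h1
      · simp [hdt, hφ]
      rcases eq_or_ne m a with rfl | h3
      · simp [hdt, hab, pow_q_pow_q hF, mul_comm (φ ^ q), hφ]
      · simp [hdt, h1, h3]) (by
      rw [map_mul, Equiv.Perm.sign_swap hab, Equiv.Perm.sign_swap hcd,
        ← Finset.prod_subset (Finset.subset_univ ({a, b} : Finset (Fin n)))
        (fun m _ hm => by simp only [Finset.mem_insert, Finset.mem_singleton, not_or] at hm; simp [hdt, hm.1, hm.2]),
        Finset.prod_pair hab]
      simp [hdt, hab]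
      linear_combination hφ)
  set f : Vs := Pi.single a 1 + Pi.single b φ with hf
  set f' : Vs := Pi.single c 1 + Pi.single d 1 with hf'
  have hyf : ∀ y : Vs, h y f = y a + φ ^ q * y b := fun y => by
    rw [hf, herm_add_right hF, herm_single_right hq0, herm_single_right hq0, one_pow, mul_one, mul_comm (y b)]
  have hyf' : ∀ y : Vs, h y f' = y c + y d := fun y => by
    rw [hf', herm_add_right hF, herm_single_right hq0, herm_single_right hq0, one_pow, mul_one, mul_one]
  have htv : ∀ y : Vs, (t : Matrix (Fin n) (Fin n) F) *ᵥ y = y + h y f • f + h y f' • f' := fun y => by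
    funext m
    rw [htx, hyf, hyf', hf, hf', Equiv.Perm.mul_apply]
    rcases eq_or_ne m a with rfl | h1
    · rw [Equiv.swap_apply_of_ne_of_ne hac had, Equiv.swap_apply_left]
      simp [hdt, hab, hac, had]; linear_combination -(y m) * h2
    rcases eq_or_ne m b with rfl | h3
    · rw [Equiv.swap_apply_of_ne_of_ne hbc hbd, Equiv.swap_apply_right]
      simp [hdt, hab.symm, hbc, hbd]; linear_combination -(y m) * hφ - (y m) * h2
    rcases eq_or_ne m c with rfl | h4
    · rw [Equiv.swap_apply_left, Equiv.swap_apply_of_ne_of_ne had.symm hbd.symm]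
      simp [hdt, hcd, h1, h3]; linear_combination -(y m) * h2
    rcases eq_or_ne m d with rfl | h5
    · rw [Equiv.swap_apply_right, Equiv.swap_apply_of_ne_of_ne hac.symm hbc.symm]
      simp [hdt, hcd.symm, h1, h3]; linear_combination -(y m) * h2
    · rw [Equiv.swap_apply_of_ne_of_ne h4 h5, Equiv.swap_apply_of_ne_of_ne h1 h3]
      simp [hdt, h1, h3, h4, h5]
  have hzz : z * z = 1 := gl_ext fun y => funext fun m => by
    rw [Units.val_mul, ← mulVec_mulVec, hzx, hzx, Equiv.swap_apply_self, Units.val_one, one_mulVec, one_mul, one_mul]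
  have htt : t * t = 1 := gl_ext fun y => funext fun m => by
    rw [Units.val_mul, ← mulVec_mulVec, htx, htx, Units.val_one, one_mulVec, Equiv.Perm.mul_apply,
      Equiv.Perm.mul_apply]
    rcases eq_or_ne m a with rfl | h1
    · rw [Equiv.swap_apply_of_ne_of_ne hac had, Equiv.swap_apply_left, Equiv.swap_apply_of_ne_of_ne hbc hbd,
        Equiv.swap_apply_right]
      simp [hdt, hab]; linear_combination (y m) * hφ
    rcases eq_or_ne m b with rfl | h3
    · rw [Equiv.swap_apply_of_ne_of_ne hbc hbd, Equiv.swap_apply_right, Equiv.swap_apply_of_ne_of_ne hac had,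
        Equiv.swap_apply_left]
      simp [hdt, hab]; linear_combination (y m) * hφ
    rcases eq_or_ne m c with rfl | h4
    · rw [Equiv.swap_apply_left, Equiv.swap_apply_of_ne_of_ne had.symm hbd.symm, Equiv.swap_apply_right,
        Equiv.swap_apply_of_ne_of_ne hac.symm hbc.symm]
      simp [hdt, h1, h3, had.symm, hbd.symm]
    rcases eq_or_ne m d with rfl | h5
    · rw [Equiv.swap_apply_right, Equiv.swap_apply_of_ne_of_ne hac.symm hbc.symm, Equiv.swap_apply_left,
        Equiv.swap_apply_of_ne_of_ne had.symm hbd.symm]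
      simp [hdt, h1, h3, hac.symm, hbc.symm]
    · rw [Equiv.swap_apply_of_ne_of_ne h4 h5, Equiv.swap_apply_of_ne_of_ne h1 h3, Equiv.swap_apply_of_ne_of_ne h4 h5,
        Equiv.swap_apply_of_ne_of_ne h1 h3]
      simp [hdt, h1, h3]
  set P : Vs := col g a - φ • col g b with hP
  set K : Vs := col g c + col g d with hKdef
  have hgf : (g : Matrix (Fin n) (Fin n) F) *ᵥ f = P := by
    rw [hf, hP, mulVec_add, col, col, ← mulVec_smul, ← Pi.single_smul, smul_eq_mul, mul_one]
    funext m
    simp only [Pi.add_apply, Pi.sub_apply]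
    linear_combination (((g : Matrix (Fin n) (Fin n) F) *ᵥ Pi.single b φ) m) * h2
  have hgf' : (g : Matrix (Fin n) (Fin n) F) *ᵥ f' = K := by rw [hf', hKdef, mulVec_add]
  set s := g * t * g⁻¹ with hs
  have hsH : s ∈ H := H.mul_mem (H.mul_mem hg htH) (H.inv_mem hg)
  have hsy : ∀ y : Vs, (s : Matrix (Fin n) (Fin n) F) *ᵥ y = y + h y P • P + h y K • K := fun y => by
    have h1 : ∀ w : Vs, h (((g⁻¹ : GL (Fin n) F) : Matrix (Fin n) (Fin n) F) *ᵥ y) w =
        h y ((g : Matrix (Fin n) (Fin n) F) *ᵥ w) := fun w => by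
      conv_rhs => rw [← mulVec_inv_mulVec g y, apply_K (hH hg)]
    rw [hs, Units.val_mul, Units.val_mul, ← mulVec_mulVec, ← mulVec_mulVec, htv, mulVec_add, mulVec_add,
      mulVec_smul, mulVec_smul, mulVec_inv_mulVec, h1, h1, hgf, hgf']
  have hss : s * s = 1 := by
    rw [hs, show g * t * g⁻¹ * (g * t * g⁻¹) = g * (t * t) * g⁻¹ by group, htt, mul_one, mul_inv_cancel]
  obtain ⟨N, huu, hu1, huz, hus⟩ := exists_central hzz hss (fun dd _ he => by
    set e := g⁻¹ * dd with he'
    have htz : t = e * z * e⁻¹ := by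
      rw [he', show g⁻¹ * dd * z * (g⁻¹ * dd)⁻¹ = g⁻¹ * (dd * z * dd⁻¹) * g by group, he, hs]; group
    set w := (e : Matrix (Fin n) (Fin n) F) *ᵥ x with hw
    have hone : ∀ y : Vs, ∃ α : F, (t : Matrix (Fin n) (Fin n) F) *ᵥ y = y + α • w := fun y => by
      refine ⟨h (((e⁻¹ : GL (Fin n) F) : Matrix (Fin n) (Fin n) F) *ᵥ y) x, ?_⟩
      rw [htz, Units.val_mul, Units.val_mul, ← mulVec_mulVec, ← mulVec_mulVec, hzy, mulVec_add, mulVec_smul,
        mulVec_inv_mulVec, ← hw]
    obtain ⟨α, hα⟩ := hone (Pi.single a 1)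
    obtain ⟨β, hβ⟩ := hone (Pi.single c 1)
    rw [htv, hyf, hyf'] at hα hβ
    have ea := congrFun hα a
    have ec := congrFun hβ a
    have ec' := congrFun hβ c
    simp [hf, hf', hab, hac, had, hac.symm, hbc.symm, hcd, hab.symm, had.symm, hbd.symm] at ea ec ec'
    rcases ec with ec | ec
    · rw [ec] at ec'; simp at ec'
    · rw [ec] at ea; simp at ea)
  set u := (z * s) ^ N with hu
  have huH : u ∈ H := H.pow_mem (H.mul_mem hzH hsH) N
  have heig : ∀ w : GL (Fin n) F, w * z = z * w →
      (w : Matrix (Fin n) (Fin n) F) *ᵥ x = h ((w : Matrix (Fin n) (Fin n) F) *ᵥ Pi.single i 1) x • x := by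
    intro w e
    have h1 : (w : Matrix (Fin n) (Fin n) F) *ᵥ ((z : Matrix (Fin n) (Fin n) F) *ᵥ Pi.single i 1) =
        (z : Matrix (Fin n) (Fin n) F) *ᵥ ((w : Matrix (Fin n) (Fin n) F) *ᵥ Pi.single i 1) := by
      rw [mulVec_mulVec, mulVec_mulVec, ← Units.val_mul, ← Units.val_mul, e]
    have h3 : h (Pi.single i 1) x = 1 := by rw [hyx]; simp [hij.symm]
    rw [hzy, hzy, h3, one_smul, mulVec_add] at h1
    exact add_left_cancel h1
  obtain ⟨π, cc, hπ, hc, huc⟩ := (mono_of_eigen hF hn hq h2 hH hM hK huH hij (θ := 1) (by simp) (heig u huz)).exists_map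
  set lam := h ((u : Matrix (Fin n) (Fin n) F) *ᵥ Pi.single i 1) x with hlam
  have hcx : ∀ l, cc l * x l = lam * x (π l) := fun l => by
    rw [← mapped_apply hπ huc, heig u huz, Pi.smul_apply, smul_eq_mul, hlam]
  have hxE : ∀ l, x l = if l ∈ O then 0 else 1 := fun l => by
    by_cases hl : l ∈ O
    · have := (hmemO l).mp hl
      simp [hx, hl, this.1, this.2]
    · have h1 := hl
      rw [hmemO, not_and_or, not_not, not_not] at h1
      rcases h1 with rfl | rfl
      · simp [hx, hl, hij]
      · simp [hx, hl, hij.symm]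
  have hlam0 : lam ≠ 0 := fun e => by
    have := hcx i
    rw [e, zero_mul, hxE, if_neg (fun hi => ((hmemO i).mp hi).1 rfl), mul_one] at this
    exact hc i this
  have hπO : ∀ l, l ∈ O ↔ π l ∈ O := fun l => by
    have := hcx l
    rw [hxE, hxE] at this
    constructor <;> intro hl <;> by_contra hno <;> simp [hl, hno] at this
    · exact hlam0 this.symm
    · exact hc l this
  have hfix : ∀ y : Vs, (∀ l, l ∉ O → y l = 0) → h y P = 0 → h y K = 0 →
      (u : Matrix (Fin n) (Fin n) F) *ᵥ y = y := fun y hy h1 h3 => by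
    refine pow_mulVec_eq ?_ N
    show ((z * s : GL (Fin n) F) : Matrix (Fin n) (Fin n) F) *ᵥ y = y
    rw [Units.val_mul, ← mulVec_mulVec, hsy, h1, h3, zero_smul, zero_smul, add_zero, add_zero, hzy, hyx,
      hy i (fun hi => ((hmemO i).mp hi).1 rfl), hy j (fun hj => ((hmemO j).mp hj).2 rfl), add_zero, zero_smul, add_zero]
  have hO1 := fixes_four hF hπ hc huc hO (fun l hl => (hπO l).mp hl) hmin hfix
  have hiO : i ∉ O := fun hi => ((hmemO i).mp hi).1 rfl
  have hmemE : ∀ l, l ∉ O → l = i ∨ l = j := fun l hl => by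
    rwa [hmemO, not_and_or, not_not, not_not] at hl
  have hπi := hmemE _ (mt (hπO i).mpr hiO)
  have hjO : j ∉ O := fun hj => ((hmemO j).mp hj).2 rfl
  have hcE : ∀ l, l ∉ O → cc l = lam := fun l hl => by
    have := hcx l
    rwa [hxE, hxE, if_neg hl, if_neg (mt (hπO l).mpr hl), mul_one, mul_one] at this
  have hπO' : ∀ l ∈ O, π l = l ∧ cc l = 1 := fun l hl => by
    have h1 : (Pi.single l 1 : Vs) = cc l • Pi.single (π l) 1 := by rw [← huc]; exact (hO1 l hl).symm
    have h3 := congrFun h1 (π l)
    rw [Pi.smul_apply, Pi.single_eq_same, smul_eq_mul, mul_one] at h3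
    rcases eq_or_ne (π l) l with e | e
    · rw [e, Pi.single_eq_same] at h3; exact ⟨e, h3.symm⟩
    · rw [Pi.single_eq_of_ne e] at h3; exact absurd h3.symm (hc l)
  have hlam1 : lam = 1 := by
    have h1 : (u : Matrix (Fin n) (Fin n) F) *ᵥ ((u : Matrix (Fin n) (Fin n) F) *ᵥ x) = x := by
      rw [mulVec_mulVec, ← Units.val_mul, huu, Units.val_one, one_mulVec]
    rw [heig u huz, mulVec_smul, heig u huz, smul_smul, ← hlam] at h1
    have h3 := congrFun h1 i
    rw [Pi.smul_apply, hxE, if_neg hiO, smul_eq_mul, mul_one] at h3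
    exact sub_eq_zero.mp (mul_self_eq_zero.mp
      (show (lam - 1) * (lam - 1) = 0 by linear_combination h3 + (1 - lam) * h2))
  have huy : ∀ y m, ((u : Matrix (Fin n) (Fin n) F) *ᵥ y) (π m) = y m := fun y m => by
    rw [mapped_apply hπ huc]
    by_cases hm : m ∈ O
    · rw [(hπO' m hm).2, one_mul]
    · rw [hcE m hm, hlam1, one_mul]
  rcases hπi with e | e
  · have ej : π j = j := (hmemE _ (mt (hπO j).mpr hjO)).resolve_left fun e' => hij (hπ (e.trans e'.symm))
    refine hu1 (gl_ext fun y => funext fun m => ?_)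
    have hm : π m = m := by
      by_cases hm : m ∈ O
      · exact (hπO' m hm).1
      · rcases hmemE m hm with rfl | rfl <;> assumption
    rw [Units.val_one, one_mulVec]
    conv_lhs => rw [← hm]
    exact huy y m
  · have ej : π j = i := (hmemE _ (mt (hπO j).mpr hjO)).resolve_right fun e' => hij (hπ (e.trans e'.symm))
    have huz' : u = z := gl_ext fun y => funext fun m => by
      have hm : π (Equiv.swap i j m) = m := by
        by_cases hm : m ∈ O
        · rw [Equiv.swap_apply_of_ne_of_ne ((hmemO m).mp hm).1 ((hmemO m).mp hm).2, (hπO' m hm).1]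
        · rcases hmemE m hm with rfl | rfl
          · rw [Equiv.swap_apply_left, ej]
          · rw [Equiv.swap_apply_right, e]
      rw [hzx, one_mul]
      conv_lhs => rw [← hm]
      exact huy y _
    rw [huz'] at hus
    have hsm : IsMono s := mono_of_eigen hF hn hq h2 hH hM hK hsH hij (θ := 1) (by simp) (heig s hus.symm)
    obtain ⟨l, hl, hPl⟩ : ∃ l ∈ O, P l ≠ 0 := by
      by_contra hno
      push Not at hno
      obtain ⟨x₁, hx₁, x₂, hx₂, hxx⟩ := Finset.one_lt_card.mp (by omega : 1 < O.card)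
      exact hmin x₁ hx₁ x₂ hx₂ hxx (by rw [hno x₁ hx₁, hno x₂ hx₂]; ring)
    obtain ⟨o, c', e'⟩ := hsm l
    obtain ⟨y₁, hy₁, y₂, hy₂, hyy⟩ := Finset.one_lt_card.mp (show 1 < (O \ {l, o}).card by
      have := Finset.le_card_sdiff ({l, o} : Finset (Fin n)) O
      have := Finset.card_le_two (a := l) (b := o)
      omega)
    have hz : ∀ y ∈ O \ {l, o}, P l ^ q * P y + K l ^ q * K y = 0 := fun y hy => by
      simp only [Finset.mem_sdiff, Finset.mem_insert, Finset.mem_singleton, not_or] at hy
      have h1 := congrFun e' y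
      rw [hsy, herm_single_left, herm_single_left, one_mul, one_mul] at h1
      simpa [hy.2.1, hy.2.2] using h1
    refine mul_ne_zero (pow_ne_zero q hPl) (hmin y₁ (Finset.mem_sdiff.mp hy₁).1 y₂ (Finset.mem_sdiff.mp hy₂).1 hyy) ?_
    linear_combination K y₂ * hz y₁ hy₁ - K y₁ * hz y₂ hy₂

theorem eq_suGL_of_even (hn : n = 6) (hq : 4 ≤ q) (h2 : (2 : F) = 0) (hH : H ≤ suGL n F q)
    (hM : ContainsMono q H) {g : GL (Fin n) F} (hg : g ∈ H) (hgm : ¬ IsMono g) : H = suGL n F q := by
  classical
  by_contra hK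
  have hn6 : 6 ≤ n := by omega
  have hq3 : 3 ≤ q := by omega
  by_cases hq5 : q ≤ 4
  · -- two entries of a row have the same weight
    set k : Fin n := ⟨0, by omega⟩ with hk
    set row : Vs := fun l => col g l k with hrow
    have h1 : (supp row)ᶜ.card ≤ 1 := Finset.card_le_one.mpr fun x hx y hy => by
      rw [Finset.mem_compl, mem_supp, not_not] at hx hy
      exact row_unique hF hn6 hq3 hH hM hK hg hgm hx hy
    have h4 := Finset.card_compl_add_card (supp row)
    rw [Fintype.card_fin] at h4
    obtain ⟨a, ha, b, hb, hab, e⟩ := Finset.exists_ne_map_eq_of_card_lt_of_maps_to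
      (show ((fixedField q F).erase 0).card < (supp row).card by
        rw [Finset.card_erase_of_mem (mem_fixedField.mpr (q_zero hF)), card_fixedField hF]; omega)
      (f := fun l => row l * row l ^ q) (fun l hl => Finset.mem_erase.mpr
        ⟨mul_ne_zero ((mem_supp (v := row)).mp hl) (pow_ne_zero _ ((mem_supp (v := row)).mp hl)),
          mem_fixedField.mpr (by rw [mul_pow, pow_q_pow_q hF, mul_comm])⟩)
    have hb0 : row b ≠ 0 := (mem_supp (v := row)).mp hb
    refine axis_ne_zero hF hn hq h2 hH hM hK hg hgm hab (φ := row a / row b) (by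
      have := pow_ne_zero q hb0
      rw [div_pow]; field_simp; linear_combination e) k ?_
    show col g a k + row a / row b * col g b k = 0
    rw [show col g b k = row b from rfl, div_mul_cancel₀ _ hb0, show col g a k = row a from rfl]
    linear_combination (row a) * h2
  set c : Fin n := ⟨0, by omega⟩ with hc
  set d : Fin n := ⟨1, by omega⟩ with hd
  have hcd : c ≠ d := by simp [hc, hd]
  set K : Vs := col g c + col g d with hKdef
  have hKfree : ∀ l, K l ≠ 0 := fun l => by
    have := axis_ne_zero hF hn hq h2 hH hM hK hg hgm hcd (φ := 1) (by simp) l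
    rwa [one_smul] at this
  have hJ : ∀ l ∈ (({c, d} : Finset (Fin n))ᶜ), h (col g l) K = 0 := fun l hl => by
    simp only [Finset.mem_compl, Finset.mem_insert, Finset.mem_singleton, not_or] at hl
    rw [hKdef, herm_add_right hF, h_col hF hH hg, h_col hF hH hg, if_neg hl.1, if_neg hl.2, add_zero]
  obtain ⟨b, hb⟩ := Finset.card_pos.mp (show 0 < (({c, d} : Finset (Fin n))ᶜ).card by
    rw [Finset.card_compl, Fintype.card_fin, Finset.card_pair hcd]; omega)
  have hKK : h K K = 0 := by
    rw [hKdef, herm_add_left hF, herm_add_right hF, herm_add_right hF, h_col hF hH hg, h_col hF hH hg,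
      h_col hF hH hg, h_col hF hH hg, if_pos rfl, if_pos rfl, if_neg hcd, if_neg hcd.symm]
    linear_combination h2
  have h3 : 3 ≤ (vals K (col g b)).card := by
    by_contra hlt
    obtain ⟨β, β', hv⟩ : ∃ β β', vals K (col g b) ⊆ {β, β'} := by
      obtain ⟨β, hβ⟩ : (vals K (col g b)).Nonempty :=
        ⟨_, Finset.mem_image_of_mem _ (mem_supp.mpr (hKfree c))⟩
      rcases Finset.eq_empty_or_nonempty ((vals K (col g b)).erase β) with e | ⟨β', hβ'⟩
      · refine ⟨β, β, fun y hy => ?_⟩
        by_contra hne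
        have : y ∈ (vals K (col g b)).erase β := Finset.mem_erase.mpr ⟨by simpa using hne, hy⟩
        rw [e] at this
        exact absurd this (Finset.notMem_empty y)
      · refine ⟨β, β', fun y hy => ?_⟩
        by_contra hne
        simp only [Finset.mem_insert, Finset.mem_singleton, not_or] at hne
        obtain ⟨hβ'1, hβ'2⟩ := Finset.mem_erase.mp hβ'
        have := Finset.card_le_card (show ({β, β', y} : Finset F) ⊆ vals K (col g b) by
          intro z hz
          simp only [Finset.mem_insert, Finset.mem_singleton] at hz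
          rcases hz with rfl | rfl | rfl <;> assumption)
        rw [Finset.card_eq_three.mpr ⟨β, β', y, hβ'1.symm, Ne.symm hne.1, Ne.symm hne.2, rfl⟩] at this
        omega
    have := sum_two hF (col g b) (col g b) K β β' hKfree (fun l => by
      have := hv (Finset.mem_image_of_mem (fun l => col g b l / K l) (mem_supp.mpr (hKfree l)))
      rw [Finset.mem_insert, Finset.mem_singleton] at this
      rcases this with e | e <;> rw [e] <;> simp [sub_self, q_zero hF])
    rw [h_col hF hH hg, if_pos rfl, hJ b hb, h_symm hF (hJ b hb), hKK] at this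
    simp at this
  obtain ⟨a, ha, hab, φ, hφ, O, hO, hmin⟩ := exists_plane_of_vals hF hH (by omega) hg
    (fun e => hKfree c (by rw [e]; rfl)) hJ (by
      have h0 : (supp K)ᶜ.card = 0 := Finset.card_eq_zero.mpr (Finset.eq_empty_of_forall_notMem fun l hl =>
        (Finset.mem_compl.mp hl) (mem_supp.mpr (hKfree l)))
      rw [h0, Finset.card_compl, Fintype.card_fin, Finset.card_pair hcd]; omega) hb h3
  simp only [Finset.mem_compl, Finset.mem_insert, Finset.mem_singleton, not_or] at ha hb
  exact false_of_even hF hn hq h2 hH hM hK hg hab ha.1 ha.2 hb.1 hb.2 hcd hφ hO hmin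

end Cfsg.Agent.Lib.UnitaryFrameSix
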