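import Cfsg.Agent.Lib.UnitaryMax.FrameMain

/-!
Overgroups of the monomial subgroup in dimension at least six, over more than four elements:
an element fixing one coordinate line, or a column with two zeros.
-/

set_option autoImplicit false
set_option linter.unusedSectionVars false

namespace Cfsg.Agent.Lib.UnitaryFrameSix

open Matrix Cfsg.Agent.Lib.Forms Cfsg.Agent.Lib.FormMax Cfsg.Agent.Lib.UnitaryMax

variable {F : Type*} [Field F] [Fintype F] {n q : ℕ}

local notation "Vs" => (Fin n → F)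
local notation "h" => Cfsg.hermForm n F q

variable (hF : Fintype.card F = q ^ 2) {H : Subgroup (GL (Fin n) F)}
include hF

/-- An element fixing one coordinate line, and not monomial, forces everything. -/
theorem eq_suGL_of_fix (hn : 6 ≤ n) (hq : 3 ≤ q) (hH : H ≤ suGL n F q) (hM : ContainsMono q H) {z : GL (Fin n) F}
    (hz : z ∈ H) (hzmono : ¬ IsMono z) {m : Fin n} {c : F}
    (hzm : (z : Matrix (Fin n) (Fin n) F) *ᵥ Pi.single m 1 = c • Pi.single m 1) : H = suGL n F q := by
  classical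
  have hq0 := q_ne_zero hF
  let supp : Vs → Finset (Fin n) := fun v => Finset.univ.filter fun l => v l ≠ 0
  have hsupp : ∀ v l, l ∈ supp v ↔ v l ≠ 0 := fun v l => by simp [supp]
  -- a first axis of weight at least two
  obtain ⟨v₀, hv₀, hv₀2⟩ : ∃ v, Axis q H m v ∧ 2 ≤ (supp v).card := by
    obtain ⟨l, hl⟩ := not_forall.mp hzmono
    have hlm : l ≠ m := fun e => hl ⟨m, c, e ▸ hzm⟩
    refine ⟨_, (axis_single hF hM hlm).map hF hH hz hzm, ?_⟩
    by_contra hlt
    obtain ⟨o, ho⟩ : ∃ o, supp ((z : Matrix (Fin n) (Fin n) F) *ᵥ Pi.single l 1) ⊆ {o} := by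
      rcases Finset.eq_empty_or_nonempty (supp ((z : Matrix (Fin n) (Fin n) F) *ᵥ Pi.single l 1)) with e | ⟨o, ho⟩
      · exact ⟨l, by rw [e]; exact Finset.empty_subset _⟩
      · exact ⟨o, fun a ha => Finset.mem_singleton.mpr (Finset.card_le_one.mp (by omega) a ha o ho)⟩
    refine hl ⟨o, ((z : Matrix (Fin n) (Fin n) F) *ᵥ Pi.single l 1) o, funext fun a => ?_⟩
    rcases eq_or_ne a o with rfl | hao
    · simp
    · rw [Pi.smul_apply, Pi.single_eq_of_ne hao, smul_zero]
      by_contra h0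
      exact hao (Finset.mem_singleton.mp (ho ((hsupp _ a).mpr h0)))
  -- more weight, one coordinate at a time
  have hgrow : ∀ v, Axis q H m v → 2 ≤ (supp v).card → (supp v).card ≤ 4 →
      ∃ v', Axis q H m v' ∧ (supp v).card + 1 ≤ (supp v').card := by
    intro v hv h2 h4
    obtain ⟨hv1, hvm, -⟩ := id hv
    obtain ⟨a, ha, l₁, hl₁, hal⟩ := Finset.one_lt_card.mp (by omega : 1 < (supp v).card)
    obtain ⟨z, -, hz⟩ := Finset.exists_mem_notMem_of_card_lt_card (s := insert m (supp v))
      (t := (Finset.univ : Finset (Fin n))) (by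
        rw [Finset.card_univ, Fintype.card_fin]
        have := Finset.card_insert_le m (supp v)
        omega)
    simp only [Finset.mem_insert, hsupp, not_or, not_not] at hz
    obtain ⟨hzm, hvz⟩ := hz
    have hva : v a ≠ 0 := (hsupp v a).mp ha
    have hvl₁ : v l₁ ≠ 0 := (hsupp v l₁).mp hl₁
    have ham : a ≠ m := fun e => hva (e ▸ hvm)
    have hzl₁ : z ≠ l₁ := fun e => hvl₁ (e ▸ hvz)
    set N₁ := v l₁ * v l₁ ^ q with hN₁
    have hN₁0 : N₁ ≠ 0 := mul_ne_zero hvl₁ (pow_ne_zero _ hvl₁)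
    set T₀ := ∑ l ∈ (supp v).erase a, v l * v l ^ q with hT₀
    obtain ⟨μ, hμ', hμK⟩ : ∃ μ ∈ normOne q F, N₁ * (μ ^ q - 1) + T₀ ≠ 0 := by
      by_contra hno
      push Not at hno
      have h1 : (normOne q F).card ≤ 1 := Finset.card_le_one.mpr fun x hx y hy => q_inj hF
        (mul_left_cancel₀ hN₁0 (by linear_combination hno x hx - hno y hy))
      rw [card_normOne hF] at h1
      omega
    have hμ := mem_normOne.mp hμ'
    set d : Vs := Function.update (fun _ => (1 : F)) l₁ μ with hd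
    obtain ⟨g, hg, -, -, hgx, c', -, hgm⟩ := exists_phased hF hM (Equiv.swap a z) m d (fun l _ => by
      rcases eq_or_ne l l₁ with rfl | hl
      · simp [hd, hμ]
      · simp [hd, hl])
    have hσm : Equiv.swap a z m = m := Equiv.swap_apply_of_ne_of_ne ham.symm (Ne.symm hzm)
    have hgem : (g : Matrix (Fin n) (Fin n) F) *ᵥ Pi.single m 1 = c' • Pi.single m 1 := by
      funext b
      rcases eq_or_ne b m with rfl | hbm
      · simp [hgm, hσm]
      · rw [hgx _ _ hbm, Pi.smul_apply, Pi.single_eq_of_ne hbm, smul_zero,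
          Pi.single_eq_of_ne (fun e' => hbm ((Equiv.swap a z).injective (e'.trans hσm.symm))), mul_zero]
    set v' := (g : Matrix (Fin n) (Fin n) F) *ᵥ v with hv'
    have hv'a := hv.map hF hH hg hgem
    rw [← hv'] at hv'a
    obtain ⟨-, hv'm, hR⟩ := id hv'a
    have hv'A : v' a = 0 := by rw [hv', hgx _ _ ham, Equiv.swap_apply_left, hvz, mul_zero]
    have hv'z : v' z = v a := by
      rw [hv', hgx _ _ hzm, Equiv.swap_apply_right, hd, Function.update_of_ne hzl₁, one_mul]
    have hv'o : ∀ l ∈ (supp v).erase a, v' l = d l * v l := fun l hl => by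
      obtain ⟨hla, hls⟩ := Finset.mem_erase.mp hl
      have hvl := (hsupp v l).mp hls
      rw [hv', hgx _ _ (fun e => hvl (by rw [e]; exact hvm)),
        Equiv.swap_apply_of_ne_of_ne hla (fun e => hvl (by rw [e]; exact hvz))]
    have hl₁R : l₁ ∈ (supp v).erase a := Finset.mem_erase.mpr ⟨hal.symm, hl₁⟩
    set K := h v v' with hK
    have hK0 : K ≠ 0 := by
      have e1 : K = ∑ l ∈ (supp v).erase a, v l * v' l ^ q := by
        rw [hK, Cfsg.hermForm]
        symm
        refine Finset.sum_subset (Finset.subset_univ _) fun l _ hl => ?_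
        rcases eq_or_ne l a with rfl | hla
        · rw [hv'A, q_zero hF, mul_zero]
        · have : v l = 0 := by
            by_contra h0; exact hl (Finset.mem_erase.mpr ⟨hla, (hsupp v l).mpr h0⟩)
          rw [this, zero_mul]
      have e2 : ∑ l ∈ (supp v).erase a, v l * v' l ^ q = N₁ * (μ ^ q - 1) + T₀ := by
        rw [← Finset.add_sum_erase _ _ hl₁R, hT₀, ← Finset.add_sum_erase _ (fun l => v l * v l ^ q) hl₁R,
          hv'o l₁ hl₁R, hd, Function.update_self, mul_pow,
          Finset.sum_congr rfl (g := fun l => v l * v l ^ q) fun l hl => by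
            rw [hv'o l (Finset.mem_of_mem_erase hl), hd, Function.update_of_ne (Finset.ne_of_mem_erase hl), one_mul]]
        rw [hN₁]; ring
      rw [e1, e2]; exact hμK
    obtain ⟨ζ, hζ, hζ1, hζμ, hζ0⟩ : ∃ ζ : F, ζ * ζ ^ q = 1 ∧ ζ ≠ 1 ∧ 1 + (ζ - 1) * K * μ ≠ 0 ∧
        1 + (ζ - 1) * K ≠ 0 := by
      obtain ⟨ζ, hζ, hζ'⟩ := Finset.exists_mem_notMem_of_card_lt_card
        (s := ({1, 1 - (K * μ)⁻¹, 1 - K⁻¹} : Finset F)) (t := normOne q F) (by
          rw [card_normOne hF]
          have := Finset.card_le_three (a := (1 : F)) (b := 1 - (K * μ)⁻¹) (c := 1 - K⁻¹)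
          omega)
      simp only [Finset.mem_insert, Finset.mem_singleton, not_or] at hζ'
      have hμ0 : μ ≠ 0 := left_ne_zero_of_mul_eq_one hμ
      refine ⟨ζ, mem_normOne.mp hζ, hζ'.1, fun e' => hζ'.2.1 ?_, fun e' => hζ'.2.2 ?_⟩
      · field_simp; linear_combination e'
      · field_simp; linear_combination e'
    obtain ⟨r, hr, hrx⟩ := hR ζ hζ
    have hrm : (r : Matrix (Fin n) (Fin n) F) *ᵥ Pi.single m 1 = ζ ^ q • Pi.single m 1 := by
      rw [hrx, herm_single_left, hv'm, q_zero hF, mul_zero, mul_zero, zero_smul, add_zero, Pi.single_eq_same,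
        mul_one, sub_smul, one_smul, add_sub_cancel]
    have hrv : (r : Matrix (Fin n) (Fin n) F) *ᵥ v = v + ((ζ - 1) * K) • v' := by
      rw [hrx, hvm, mul_zero, zero_smul, add_zero]
    refine ⟨_, hv.map hF hH hr hrm, ?_⟩
    rw [hrv]
    have hzs : z ∉ supp v := fun e => (hsupp v z).mp e hvz
    rw [← Finset.card_insert_of_notMem hzs]
    refine Finset.card_le_card fun l hl => ?_
    rw [hsupp, Pi.add_apply, Pi.smul_apply, smul_eq_mul]
    rcases Finset.mem_insert.mp hl with rfl | hl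
    · rw [hvz, zero_add, hv'z]
      exact mul_ne_zero (mul_ne_zero (sub_ne_zero.mpr hζ1) hK0) hva
    rcases eq_or_ne l a with rfl | hla
    · rw [hv'A, mul_zero, add_zero]; exact hva
    have hvl := (hsupp v l).mp hl
    rw [hv'o l (Finset.mem_erase.mpr ⟨hla, hl⟩)]
    intro e'
    rcases eq_or_ne l l₁ with rfl | hll
    · rw [hd, Function.update_self] at e'
      exact hζμ ((mul_eq_zero.mp (show v l * (1 + (ζ - 1) * K * μ) = 0 by linear_combination e')).resolve_left hvl)
    · rw [hd, Function.update_of_ne hll] at e'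
      exact hζ0 ((mul_eq_zero.mp (show v l * (1 + (ζ - 1) * K) = 0 by linear_combination e')).resolve_left hvl)
  obtain ⟨v, hv, hv5⟩ : ∃ v, Axis q H m v ∧ 5 ≤ (supp v).card := by
    by_cases h5 : 5 ≤ (supp v₀).card
    · exact ⟨v₀, hv₀, h5⟩
    obtain ⟨v₁, hv₁, hc₁⟩ := hgrow v₀ hv₀ hv₀2 (by omega)
    by_cases h5' : 5 ≤ (supp v₁).card
    · exact ⟨v₁, hv₁, h5'⟩
    obtain ⟨v₂, hv₂, hc₂⟩ := hgrow v₁ hv₁ (by omega) (by omega)
    by_cases h5'' : 5 ≤ (supp v₂).card
    · exact ⟨v₂, hv₂, h5''⟩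
    obtain ⟨v₃, hv₃, hc₃⟩ := hgrow v₂ hv₂ (by omega) (by omega)
    exact ⟨v₃, hv₃, by omega⟩
  obtain ⟨hv1, hvm, hvR⟩ := id hv
  -- singular differences of axes
  have hmake : ∀ e : Vs, (∀ l, e l * e l ^ q = 1) → e m = 1 → ∑ l, (e l - 1) * (v l * v l ^ q) = 0 →
      (fun l => (e l - 1) * v l) ∈ root q H := by
    intro e he hem hsum
    set w : Vs := fun l => (e l - 1) * v l with hw
    obtain ⟨g, hg, hgK, -, hgx, c', -, hgm⟩ := exists_phased hF hM (1 : Equiv.Perm (Fin n)) m e (fun l _ => he l)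
    have hgem : (g : Matrix (Fin n) (Fin n) F) *ᵥ Pi.single m 1 = c' • Pi.single m 1 := by
      funext a
      rcases eq_or_ne a m with rfl | ham
      · simp [hgm]
      · simp [hgx _ _ ham, ham]
    have hgv : (g : Matrix (Fin n) (Fin n) F) *ᵥ v = v + w := by
      funext a
      rcases eq_or_ne a m with rfl | ham
      · simp [hgm, hw, hvm, hem]
      · simp [hgx _ _ ham, hw]; ring
    have hwv : h w v = 0 := by
      rw [← hsum, Cfsg.hermForm]
      exact Finset.sum_congr rfl fun l _ => by rw [hw]; ring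
    have hvw : h v w = 0 := h_symm hF hwv
    have hww : h w w = 0 := by
      have h1 := apply_K hgK v v
      rw [hgv, herm_add_left hF, herm_add_right hF, herm_add_right hF, hvw, hwv] at h1
      linear_combination h1
    have hwm : w m = 0 := by simp [hw, hvm]
    have hvw' := hv.map hF hH hg hgem
    rw [hgv] at hvw'
    -- Eichler elements
    have hA : ∀ α : F, α * α ^ q = 1 → ∃ A ∈ H, ∀ x : Vs, (A : Matrix (Fin n) (Fin n) F) *ᵥ x =
        x + (-(h x w) * (α - 1)) • v + ((α ^ q - 1) * h x v + (α ^ q - 1) * h x w) • w := by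
      intro α hα
      obtain ⟨r₁, hr₁, hr₁x⟩ := hvR α hα
      obtain ⟨r₂, hr₂, hr₂x⟩ := hvw'.2.2 (α ^ q) (by rw [pow_q_pow_q hF, mul_comm]; exact hα)
      refine ⟨r₁ * r₂, H.mul_mem hr₁ hr₂, fun x => ?_⟩
      rw [Units.val_mul, ← mulVec_mulVec, hr₂x, hr₁x, pow_q_pow_q hF]
      simp only [herm_add_left hF, herm_smul_left hF, herm_add_right hF, hv1, hwv,
        herm_single_left, Pi.add_apply, Pi.smul_apply, Pi.single_eq_same, hvm, hwm, q_zero hF, smul_eq_mul]
      match_scalars
      · ring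
      · linear_combination (h x v + h x w) * hα
      · ring
      · linear_combination (x m) * hα
    have hP : ∀ α β : F, α * α ^ q = 1 → β * β ^ q = 1 →
        T w ((α - 1) * (β ^ q - 1) - ((α - 1) * (β ^ q - 1)) ^ q) hww ∈ H := by
      intro α β hα hβ
      obtain ⟨A, hAH, hAx⟩ := hA α hα
      obtain ⟨B, hBH, hBx⟩ := hA β hβ
      have e' : A * B = T w ((α - 1) * (β ^ q - 1) - ((α - 1) * (β ^ q - 1)) ^ q) hww * (B * A) := by
        refine gl_ext fun x => ?_
        simp only [Units.val_mul, ← mulVec_mulVec, T_mulVec, hAx, hBx, herm_add_left hF, herm_smul_left hF,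
          hww, hwv, hvw, hv1, mul_pow, q_sub hF, one_pow, pow_q_pow_q hF]
        match_scalars <;> ring
      have h1 := H.mul_mem (H.mul_mem hAH hBH) (H.inv_mem (H.mul_mem hBH hAH))
      rwa [e', mul_inv_cancel_right] at h1
    let G : AddSubgroup F :=
      { carrier := {P | T w (P - P ^ q) hww ∈ H}
        zero_mem' := by
          show T w (0 - 0 ^ q) hww ∈ H
          have : T w ((0 : F) - 0 ^ q) hww = 1 := gl_ext fun x => by
            rw [T_mulVec, q_zero hF, sub_zero, zero_mul, zero_smul, add_zero, Units.val_one, one_mulVec]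
          rw [this]; exact H.one_mem
        add_mem' := by
          intro a b ha hb
          show T w (a + b - (a + b) ^ q) hww ∈ H
          have : T w (a + b - (a + b) ^ q) hww = T w (a - a ^ q) hww * T w (b - b ^ q) hww := gl_ext fun x => by
            rw [Units.val_mul, ← mulVec_mulVec, T_mulVec, T_mulVec, T_mulVec, herm_add_left hF,
              herm_smul_left hF, hww, q_add hF]
            module
          rw [this]; exact H.mul_mem ha hb
        neg_mem' := by
          intro a ha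
          show T w (-a - (-a) ^ q) hww ∈ H
          have : T w (-a - (-a) ^ q) hww = (T w (a - a ^ q) hww)⁻¹ := eq_inv_of_mul_eq_one_left (gl_ext fun x => by
            rw [Units.val_mul, ← mulVec_mulVec, T_mulVec, T_mulVec, herm_add_left hF,
              herm_smul_left hF, hww, q_neg hF, Units.val_one, one_mulVec]
            module)
          rw [this]; exact H.inv_mem ha }
    have hgen : ∀ α β : F, α ∈ normOne q F → β ∈ normOne q F → (α - 1) * (β - 1) ∈ G := by
      intro α β hα hβ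
      have h1 := hP α (β ^ q) (mem_normOne.mp hα) (mem_normOne.mp (normOne_conj hF hβ))
      rw [pow_q_pow_q hF] at h1
      exact h1
    obtain ⟨ω, hω, hω1, -, -⟩ := exists_omega hF
    have hscale : ∀ γ ∈ normOne q F, γ * ((ω - 1) * (ω - 1)) ∈ G := by
      intro γ hγ
      have h1 := G.sub_mem (hgen (γ * ω) ω (normOne_mul hF hγ hω) hω) (hgen γ ω hγ hω)
      rwa [show (γ * ω - 1) * (ω - 1) - (γ - 1) * (ω - 1) = γ * ((ω - 1) * (ω - 1)) by ring] at h1
    have hall : ∀ P : F, P ∈ G := by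
      intro P
      set p₀ := (ω - 1) * (ω - 1) with hp₀
      have hp0 : p₀ ≠ 0 := mul_ne_zero (sub_ne_zero.mpr hω1) (sub_ne_zero.mpr hω1)
      obtain ⟨a, ha, b, hb, a', ha', b', hb', hsum'⟩ := exists_four hF (one_ne_zero (α := F)) (one_ne_zero (α := F))
        (one_ne_zero (α := F)) (one_ne_zero (α := F)) (P / p₀)
      have h1 := G.add_mem (G.add_mem (hscale a ha) (hscale b hb)) (G.add_mem (hscale a' ha') (hscale b' hb'))
      have e' : P = a * p₀ + b * p₀ + (a' * p₀ + b' * p₀) := by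
        rw [← div_mul_cancel₀ P hp0, ← hsum']; ring
      rw [e']; exact h1
    obtain ⟨τ, hτ⟩ := exists_trace_one hF
    refine ⟨hww, fun c'' hc'' => ?_⟩
    have h1 : T w (τ * c'' - (τ * c'') ^ q) hww ∈ H := hall (τ * c'')
    rwa [show τ * c'' - (τ * c'') ^ q = c'' by
      rw [mul_pow, eq_neg_of_add_eq_zero_right hc'']; linear_combination c'' * hτ] at h1
  have hq2 : q ≠ 2 := by omega
  obtain ⟨s, hs, hs5⟩ := Finset.exists_subset_card_eq hv5
  set f := s.orderEmbOfFin hs5 with hf
  have hfv : ∀ i, v (f i) ≠ 0 := fun i => (hsupp v _).mp (hs (Finset.orderEmbOfFin_mem s hs5 i))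
  have hfm : ∀ i, f i ≠ m := fun i e' => hfv i (e' ▸ hvm)
  have hr : ∀ i, v (f i) * v (f i) ^ q ≠ 0 := fun i => mul_ne_zero (hfv i) (pow_ne_zero _ (hfv i))
  obtain ⟨ω, hω, hω1, -, -⟩ := exists_omega hF
  obtain ⟨a, ha, b, hb, a', ha', b', hb', hsum⟩ := exists_four hF (hr 0) (hr 1) (hr 2) (hr 3)
    (v (f 0) * v (f 0) ^ q + v (f 1) * v (f 1) ^ q + v (f 2) * v (f 2) ^ q + v (f 3) * v (f 3) ^ q -
      v (f 4) * v (f 4) ^ q * (ω - 1))
  set ε : Fin 5 → F := ![a, b, a', b', ω] with hε
  set e : Vs := Function.extend f ε 1 with he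
  have hef : ∀ i, e (f i) = ε i := fun i => f.injective.extend_apply ε 1 i
  have heo : ∀ l, (∀ i, f i ≠ l) → e l = 1 := fun l hl =>
    Function.extend_apply' ε (1 : Vs) l fun ⟨i, hi⟩ => hl i hi
  have hw := hmake e (fun l => by
      by_cases hl : ∃ i, f i = l
      · obtain ⟨i, rfl⟩ := hl
        rw [hef]
        fin_cases i <;> simp [hε, mem_normOne.mp ha, mem_normOne.mp hb, mem_normOne.mp ha', mem_normOne.mp hb',
          mem_normOne.mp hω]
      · push Not at hl
        rw [heo l hl]; simp) (heo m hfm) (by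
    rw [← Finset.sum_subset (Finset.subset_univ (Finset.univ.map f.toEmbedding)) (fun l _ hl => by
      rw [heo l (fun i e' => hl (by simp [← e']))]; ring), Finset.sum_map]
    simp only [RelEmbedding.coe_toEmbedding, hef, Fin.sum_univ_five]
    simp [hε]
    linear_combination hsum)
  refine eq_suGL_of_root hF (by omega) (fun _ => by omega) hH hM hw (k := f 4) (o := m) ?_ (by simp [hvm]) fun e' => absurd e' hq2
  simp [hef, hε, sub_ne_zero.mpr hω1, hfv 4]

theorem eq_suGL_of_weight_one (hn : 6 ≤ n) (hq : 3 ≤ q) (hH : H ≤ suGL n F q) (hM : ContainsMono q H) {g : GL (Fin n) F}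
    (hg : g ∈ H) (hgm : ¬ IsMono g) {l o : Fin n} {c : F}
    (he : (g : Matrix (Fin n) (Fin n) F) *ᵥ Pi.single l 1 = c • Pi.single o 1) : H = suGL n F q := by
  classical
  obtain ⟨p, hp, -, hpm, hpx, c', -, hpl⟩ :=
    exists_phased hF hM (Equiv.swap l o) l (fun _ => (1 : F)) (fun _ _ => by simp)
  refine eq_suGL_of_fix hF hn hq hH hM (H.mul_mem hp hg) (fun hmono => hgm ?_) (m := l) (c := c * c') ?_
  · have := hpm.inv.mul hmono
    rwa [inv_mul_cancel_left] at this
  · rw [Units.val_mul, ← mulVec_mulVec, he, mulVec_smul, mul_smul]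
    congr 1
    funext a
    rcases eq_or_ne a l with rfl | hal
    · simp [hpl]
    · rw [hpx _ _ hal, one_mul, Pi.smul_apply, Pi.single_eq_of_ne hal, smul_zero, Pi.single_eq_of_ne]
      intro e'
      exact hal ((Equiv.swap l o).injective (e'.trans (Equiv.swap_apply_left l o).symm))

/-- Two zeros in one column suffice. -/
theorem eq_suGL_of_two_zeros [DecidableEq F] (hn : 6 ≤ n) (hq : 3 ≤ q) (hH : H ≤ suGL n F q)
    (hM : ContainsMono q H) {g : GL (Fin n) F} (hg : g ∈ H) (hgm : ¬ IsMono g) {j c₀ c₁ : Fin n}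
    (hne : c₀ ≠ c₁) (h₀ : ((g : Matrix (Fin n) (Fin n) F) *ᵥ Pi.single j 1) c₀ = 0)
    (h₁ : ((g : Matrix (Fin n) (Fin n) F) *ᵥ Pi.single j 1) c₁ = 0) : H = suGL n F q := by
  classical
  by_contra hK
  set col : Fin n → Vs := fun l => (g : Matrix (Fin n) (Fin n) F) *ᵥ Pi.single l 1 with hcol
  obtain ⟨ω, hω, hω1, hω2, hω3⟩ : ∃ ω : F, ω * ω ^ q = 1 ∧ ω ≠ 1 ∧ ω ≠ -1 ∧ ω * ω + ω + 1 ≠ 0 := by
    set R := Finset.univ.filter fun x : F => (1 : F) * x * x + 1 * x + 1 = 0 with hR
    obtain ⟨ω, hω, hω'⟩ : ∃ ω ∈ normOne q F, ω ∉ ({1, -1} : Finset F) ∪ R := by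
      by_contra hno
      push Not at hno
      have h1 := Finset.card_le_card hno
      have h2 : R.card ≤ 2 := card_quadratic_le one_ne_zero
      have h3 := Finset.card_le_two (a := (1 : F)) (b := -1)
      have h4 := Finset.card_union_le ({1, -1} : Finset F) R
      rw [card_normOne hF] at h1
      rcases Nat.lt_or_ge 3 q with h5 | h5
      · omega
      have hq3 : q = 3 := by omega
      have hR1 : (1 : F) ∈ R := by
        have h0 := FiniteField.cast_card_eq_zero F
        rw [hF, hq3] at h0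
        push_cast at h0
        have h30 : (3 : F) = 0 := mul_self_eq_zero.mp (show (3 : F) * 3 = 0 by linear_combination h0)
        simp only [hR, Finset.mem_filter, Finset.mem_univ, true_and]
        linear_combination h30
      have hsub : ({1, -1} : Finset F) ∪ R ⊆ {1, -1} := by
        refine Finset.union_subset (subset_refl _) fun x hx => ?_
        simp only [hR, Finset.mem_filter, Finset.mem_univ, true_and] at hx hR1
        have : (x - 1) * (x - 1) = 0 := by linear_combination hx - x * hR1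
        simp [sub_eq_zero.mp (mul_self_eq_zero.mp this)]
      have h6 := Finset.card_le_card hsub
      omega
    simp only [Finset.mem_union, Finset.mem_insert, Finset.mem_singleton, hR, Finset.mem_filter,
      Finset.mem_univ, true_and, not_or] at hω'
    exact ⟨ω, mem_normOne.mp hω, hω'.1.1, hω'.1.2, by simpa using hω'.2⟩
  -- one pair of zeros confines the columns
  have hpair : ∀ j c₀ c₁, c₀ ≠ c₁ → col j c₀ = 0 → col j c₁ = 0 →
      ∀ l, col l c₀ ≠ 0 → ∀ a, a ≠ c₀ → a ≠ c₁ → col l a = 0 := by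
    intro j c₀ c₁ hne e₀ e₁ l hl a ha₀ ha₁
    obtain ⟨D, hD, -, -, hD₀, hD₁, hDo⟩ := exists_torus hF hM hne hω
    set y := g⁻¹ * D * g with hy
    have hyH : y ∈ H := H.mul_mem (H.mul_mem (H.inv_mem hg) hD) hg
    have hgy : ∀ x : Vs, (g : Matrix (Fin n) (Fin n) F) *ᵥ ((y : Matrix (Fin n) (Fin n) F) *ᵥ x) =
        (D : Matrix (Fin n) (Fin n) F) *ᵥ ((g : Matrix (Fin n) (Fin n) F) *ᵥ x) := fun x => by
      rw [hy, Units.val_mul, Units.val_mul, ← mulVec_mulVec, ← mulVec_mulVec, mulVec_inv_mulVec]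
    have hyj : (y : Matrix (Fin n) (Fin n) F) *ᵥ Pi.single j 1 = (1 : F) • Pi.single j 1 := by
      rw [one_smul, hy, Units.val_mul, Units.val_mul, ← mulVec_mulVec, ← mulVec_mulVec]
      have : (D : Matrix (Fin n) (Fin n) F) *ᵥ col j = col j := by
        funext b
        rcases eq_or_ne b c₀ with rfl | hb₀
        · rw [hD₀, e₀, mul_zero]
        rcases eq_or_ne b c₁ with rfl | hb₁
        · rw [hD₁, e₁, mul_zero]
        · exact hDo _ b hb₀ hb₁
      rw [show (g : Matrix (Fin n) (Fin n) F) *ᵥ Pi.single j 1 = col j from rfl, this, hcol, inv_mulVec_mulVec]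
    have hymono : IsMono y := by
      by_contra hn'
      exact hK (eq_suGL_of_fix hF hn hq hH hM hyH hn' hyj)
    obtain ⟨π, k, hπ, hk, hyk⟩ := hymono.exists_map
    have hsq : π (π l) = l := by
      by_contra hne2
      have h12 : π l ≠ l := fun e' => hne2 (by rw [e', e'])
      have h23 : π (π l) ≠ π l := fun e' => h12 (hπ e')
      have h34 : π (π (π l)) ≠ π (π l) := fun e' => h23 (hπ e')
      set S := 1 + ω + ω ^ q with hS
      have hcub : ∀ x : Vs, (D : Matrix (Fin n) (Fin n) F) *ᵥ ((D : Matrix (Fin n) (Fin n) F) *ᵥ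
          ((D : Matrix (Fin n) (Fin n) F) *ᵥ x)) - S • ((D : Matrix (Fin n) (Fin n) F) *ᵥ
          ((D : Matrix (Fin n) (Fin n) F) *ᵥ x)) + S • ((D : Matrix (Fin n) (Fin n) F) *ᵥ x) - x = 0 := by
        intro x
        funext b
        simp only [Pi.add_apply, Pi.sub_apply, Pi.smul_apply, smul_eq_mul, Pi.zero_apply]
        rcases eq_or_ne b c₀ with rfl | hb₀
        · simp only [hD₀, hS]; linear_combination ((1 - ω) * x b) * hω
        rcases eq_or_ne b c₁ with rfl | hb₁
        · simp only [hD₁, hS]; linear_combination ((1 - ω ^ q) * x b) * hω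
        · simp only [hDo _ b hb₀ hb₁]; ring
      have h1 := hcub ((g : Matrix (Fin n) (Fin n) F) *ᵥ Pi.single l 1)
      simp only [← hgy, hyk, mulVec_smul, smul_smul] at h1
      have h2 := congrArg (((g⁻¹ : GL (Fin n) F) : Matrix (Fin n) (Fin n) F) *ᵥ ·) h1
      simp only [mulVec_add, mulVec_sub, mulVec_smul, inv_mulVec_mulVec, mulVec_zero] at h2
      have h3 := congrFun h2 (π (π l))
      simp [Pi.single_eq_of_ne h34.symm, Pi.single_eq_of_ne h23, Pi.single_eq_of_ne hne2] at h3
      rcases h3 with h3 | h3 | h3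
      · refine hω3 ?_
        linear_combination ω * h3 - hω
      all_goals exact hk _ h3
    have h2 : (D : Matrix (Fin n) (Fin n) F) *ᵥ ((D : Matrix (Fin n) (Fin n) F) *ᵥ col l) =
        (k l * k (π l)) • col l := by
      rw [hcol]
      simp only [← hgy, hyk, mulVec_smul, smul_smul, hsq]
    have e₀' := congrFun h2 c₀
    rw [hD₀, hD₀, Pi.smul_apply, smul_eq_mul, ← mul_assoc] at e₀'
    have hκ := mul_right_cancel₀ hl e₀'
    have ea := congrFun h2 a
    rw [hDo _ a ha₀ ha₁, hDo _ a ha₀ ha₁, Pi.smul_apply, smul_eq_mul, ← hκ] at ea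
    have hω11 : ω * ω ≠ 1 := fun e' => by
      rcases mul_self_eq_one_iff.mp e' with e'' | e''
      · exact hω1 e''
      · exact hω2 e''
    by_contra h0
    exact hω11 (mul_right_cancel₀ h0 (by linear_combination -ea))
  -- three zeros
  have hthree : ∀ j c₀ c₁ c₂, c₀ ≠ c₁ → c₀ ≠ c₂ → c₁ ≠ c₂ → col j c₀ = 0 → col j c₁ = 0 → col j c₂ = 0 →
      False := by
    intro j c₀ c₁ c₂ h01 h02 h12 e₀ e₁ e₂
    obtain ⟨l, hl⟩ := exists_col_ne g c₀
    refine hK (eq_suGL_of_weight_one hF hn hq hH hM hg hgm (l := l) (o := c₀) (c := col l c₀) (funext fun a => ?_))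
    rcases eq_or_ne a c₀ with rfl | ha₀
    · simp [hcol]
    rw [Pi.smul_apply, Pi.single_eq_of_ne ha₀, smul_zero]
    rcases eq_or_ne a c₁ with rfl | ha₁
    · exact hpair j c₀ c₂ h02 e₀ e₂ l hl a ha₀ h12
    · exact hpair j c₀ c₁ h01 e₀ e₁ l hl a ha₀ ha₁
  obtain ⟨l, hl⟩ := exists_col_ne g c₀
  obtain ⟨s, hs, hs3⟩ := Finset.exists_subset_card_eq (s := ({c₀, c₁} : Finset (Fin n))ᶜ) (n := 3) (by
    rw [Finset.card_compl, Fintype.card_fin, Finset.card_pair hne]; omega)
  obtain ⟨a, b, d, hab, had, hbd, rfl⟩ := Finset.card_eq_three.mp hs3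
  have hz : ∀ x ∈ ({a, b, d} : Finset (Fin n)), col l x = 0 := fun x hx => by
    have hx' := hs hx
    simp only [Finset.mem_compl, Finset.mem_insert, Finset.mem_singleton, not_or] at hx'
    exact hpair j c₀ c₁ hne h₀ h₁ l hl x hx'.1 hx'.2
  exact hthree l a b d hab had hbd (hz a (by simp)) (hz b (by simp)) (hz d (by simp))


end Cfsg.Agent.Lib.UnitaryFrameSix
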