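import Cfsg.Agent.Lib.UnitaryFrameSix.Select

/-!
The case of nine elements: a reflection up to a scalar.
-/

set_option autoImplicit false
set_option linter.unusedSectionVars false

namespace Cfsg.Agent.Lib.UnitaryFrameSix

open Matrix Cfsg.Agent.Lib.Forms Cfsg.Agent.Lib.FormMax Cfsg.Agent.Lib.UnitaryMax

variable {F : Type*} [Field F] [Fintype F] [DecidableEq F] {n q : ℕ}

local notation "Vs" => (Fin n → F)
local notation "h" => Cfsg.hermForm n F q

variable (hF : Fintype.card F = q ^ 2) {H : Subgroup (GL (Fin n) F)}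
include hF

omit [DecidableEq F] in
theorem exists_sqrt_neg_one (hq : q = 3) : ∃ ι : F, ι * ι = -1 ∧ (3 : F) = 0 ∧ ι * ι ^ q = 1 := by
  have h3 : (3 : F) = 0 := by
    have h0 := FiniteField.cast_card_eq_zero F
    rw [hF, hq] at h0
    push_cast at h0
    exact mul_self_eq_zero.mp (show (3 : F) * 3 = 0 by linear_combination h0)
  have : IsSquare (-1 : F) := by
    rw [FiniteField.isSquare_neg_one_iff, hF, hq]; norm_num
  obtain ⟨ι, hι⟩ := this
  exact ⟨ι, hι.symm, h3, by rw [hq]; linear_combination (1 - ι * ι) * hι⟩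

/-- The weights on the support of a column agree. -/
theorem norm_eq_of_three (hn : n = 6) (hq : q = 3) (hH : H ≤ suGL n F q) (hM : ContainsMono q H)
    (hK : H ≠ suGL n F q) {g : GL (Fin n) F} (hg : g ∈ H) (hgm : ¬ IsMono g) (k : Fin n) {i j : Fin n}
    (hi : col g k i ≠ 0) (hj : col g k j ≠ 0) :
    col g k i * col g k i ^ q = col g k j * col g k j ^ q := by
  classical
  by_contra hne
  have hij : i ≠ j := fun e => hne (e ▸ rfl)
  have hn6 : 6 ≤ n := by omega
  have hq3 : 3 ≤ q := by omega
  have hq0 := q_ne_zero hF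
  obtain ⟨ι, hι, h3, hιn⟩ := exists_sqrt_neg_one hF hq
  have hι0 : ι ≠ 0 := left_ne_zero_of_mul_eq_one hιn
  have h2 : (2 : F) ≠ 0 := fun e => one_ne_zero (by linear_combination h3 - e)
  set O : Finset (Fin n) := ({i, j} : Finset (Fin n))ᶜ with hOdef
  have hmemO : ∀ l, l ∈ O ↔ l ≠ i ∧ l ≠ j := fun l => by simp [hOdef]
  have hO : O.card = 4 := by rw [hOdef, Finset.card_compl, Fintype.card_fin, Finset.card_pair hij, hn]
  obtain ⟨z, hzH, -, -, hzx⟩ := exists_diagElt hM (fun l => if l ∈ O then 1 else -1) (fun l => by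
      split_ifs <;> simp [q_neg hF]) (by
      rw [← Finset.prod_subset (Finset.subset_univ ({i, j} : Finset (Fin n))) (fun l _ hl => by
        simp only [Finset.mem_insert, Finset.mem_singleton, not_or] at hl; simp [hmemO, hl]), Finset.prod_pair hij]
      simp [hmemO])
  set dρ : Vs := Function.update (fun _ => ι) k (-ι) with hdρ
  obtain ⟨ρ, hρH, -, -, hρx⟩ := exists_diagElt hM dρ (fun l => by
      rcases eq_or_ne l k with rfl | hl
      · simp [hdρ, q_neg hF, hιn]
      · simp [hdρ, hl, hιn]) (by
      rw [← Finset.mul_prod_erase Finset.univ dρ (Finset.mem_univ k),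
        Finset.prod_congr rfl (g := fun _ => ι) (fun l hl => Function.update_of_ne (Finset.ne_of_mem_erase hl) _ _),
        Finset.prod_const, Finset.card_erase_of_mem (Finset.mem_univ k), Finset.card_univ, Fintype.card_fin, hn,
        show dρ k = -ι from Function.update_self _ _ _]
      linear_combination (-(ι * ι * ι * ι) + ι * ι - 1) * hι)
  let S : GL (Fin n) F := Units.map (Matrix.scalar (Fin n)).toMonoidHom (Units.mk0 ι hι0)
  have hSx : ∀ x : Vs, (S : Matrix (Fin n) (Fin n) F) *ᵥ x = ι • x := fun x => by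
    funext l
    show (Matrix.scalar (Fin n) ι *ᵥ x) l = _
    rw [Matrix.scalar_apply, mulVec_diagonal, Pi.smul_apply, smul_eq_mul]
  have hSc : ∀ w : GL (Fin n) F, Commute S w := fun w => gl_ext fun x => by
    rw [Units.val_mul, Units.val_mul, ← mulVec_mulVec, ← mulVec_mulVec, hSx, hSx, mulVec_smul]
  set r := S⁻¹ * ρ with hr
  have hrx : ∀ x m, ((r : Matrix (Fin n) (Fin n) F) *ᵥ x) m = (if m = k then -1 else 1) * x m := by
    intro x m
    have h1 := congrFun (hSx ((r : Matrix (Fin n) (Fin n) F) *ᵥ x)) m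
    rw [mulVec_mulVec, ← Units.val_mul, hr, mul_inv_cancel_left, hρx, Pi.smul_apply, smul_eq_mul, hdρ] at h1
    refine mul_left_cancel₀ hι0 (h1.symm.trans ?_)
    rcases eq_or_ne m k with rfl | hm
    · simp
    · simp [hm]
  set p := col g k with hp
  set R := g * r * g⁻¹ with hR
  have hRy : ∀ y : Vs, (R : Matrix (Fin n) (Fin n) F) *ᵥ y = y - (2 * h y p) • p := by
    intro y
    have e : ∀ x : Vs, (r : Matrix (Fin n) (Fin n) F) *ᵥ x = x - (2 * x k) • Pi.single k 1 := fun x => by
      funext m
      rw [hrx]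
      rcases eq_or_ne m k with rfl | hm
      · simp; ring
      · simp [hm]
    rw [hR, Units.val_mul, Units.val_mul, ← mulVec_mulVec, ← mulVec_mulVec, e, mulVec_sub, mulVec_smul,
      mulVec_inv_mulVec]
    have h1 : h y p = (((g⁻¹ : GL (Fin n) F) : Matrix (Fin n) (Fin n) F) *ᵥ y) k := by
      conv_lhs => rw [hp, col, ← mulVec_inv_mulVec g y, apply_K (hH hg), herm_single_right hq0, one_pow, mul_one]
    rw [← h1]
  have hzz : z * z = 1 := gl_ext fun x => funext fun l => by
    rw [Units.val_mul, ← mulVec_mulVec, hzx, hzx, Units.val_one, one_mulVec]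
    split_ifs <;> ring
  have hrr : r * r = 1 := gl_ext fun x => funext fun l => by
    rw [Units.val_mul, ← mulVec_mulVec, hrx, hrx, Units.val_one, one_mulVec]
    split_ifs <;> ring
  have hRR : R * R = 1 := by
    rw [hR, show g * r * g⁻¹ * (g * r * g⁻¹) = g * (r * r) * g⁻¹ by group, hrr, mul_one, mul_inv_cancel]
  obtain ⟨N, huu, hu1, huz, huR⟩ := exists_central hzz hRR (fun d _ e => by
    have h1 := congrArg (fun w : GL (Fin n) F => Matrix.GeneralLinearGroup.det w) e
    simp only [hR, map_mul, map_inv, mul_inv_cancel_comm] at h1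
    have h4 := congrArg Units.val h1
    rw [Matrix.GeneralLinearGroup.val_det_apply, Matrix.GeneralLinearGroup.val_det_apply,
      det_of_map 1 (d := fun l => if l ∈ O then 1 else -1) (by simpa using hzx),
      det_of_map 1 (d := fun m => if m = k then -1 else 1) (by simpa using hrx),
      ← Finset.prod_subset (Finset.subset_univ ({i, j} : Finset (Fin n))) (fun l _ hl => by
        simp only [Finset.mem_insert, Finset.mem_singleton, not_or] at hl; simp [hmemO, hl]),
      Finset.prod_pair hij, Finset.prod_ite_eq'] at h4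
    simp [hmemO] at h4
    exact h2 (by linear_combination h4))
  set u := (z * R) ^ N with hu
  set u' := (z * (g * ρ * g⁻¹)) ^ N with hu'
  have hu'H : u' ∈ H := H.pow_mem (H.mul_mem hzH (H.mul_mem (H.mul_mem hg hρH) (H.inv_mem hg))) N
  have hzR : z * (g * ρ * g⁻¹) = S * (z * R) := by
    have hρ : ρ = S * r := by rw [hr, mul_inv_cancel_left]
    rw [hρ, hR, ← mul_assoc g S r, ← (hSc g).eq]
    simp only [mul_assoc]
    rw [← mul_assoc z S, ← (hSc z).eq]
    simp only [mul_assoc]
  have huS : u' = S ^ N * u := by rw [hu', hu, hzR, (hSc _).mul_pow]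
  have hSN : ∀ x : Vs, ((S ^ N : GL (Fin n) F) : Matrix (Fin n) (Fin n) F) *ᵥ x = ι ^ N • x := by
    intro x
    clear_value u u'
    clear huS hu hu' huu hu1 huz huR hu'H
    induction N with
    | zero => simp
    | succ N ih =>
      rw [pow_succ', Units.val_mul, ← mulVec_mulVec, ih, hSx, smul_smul, pow_succ']
  have hu'x : ∀ x : Vs, (u' : Matrix (Fin n) (Fin n) F) *ᵥ x = ι ^ N • ((u : Matrix (Fin n) (Fin n) F) *ᵥ x) :=
    fun x => by rw [huS, Units.val_mul, ← mulVec_mulVec, hSN]
  have hιN : ι ^ N ≠ 0 := pow_ne_zero _ hι0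
  have hzu : ∀ x : Vs, (z : Matrix (Fin n) (Fin n) F) *ᵥ ((u : Matrix (Fin n) (Fin n) F) *ᵥ x) =
      (u : Matrix (Fin n) (Fin n) F) *ᵥ ((z : Matrix (Fin n) (Fin n) F) *ᵥ x) := fun x => by
    rw [mulVec_mulVec, mulVec_mulVec, ← Units.val_mul, ← Units.val_mul, huz]
  have hzi : (z : Matrix (Fin n) (Fin n) F) *ᵥ Pi.single i 1 = -Pi.single i 1 := funext fun x => by
    rw [hzx]
    rcases eq_or_ne x i with rfl | hx
    · simp [hmemO]
    · simp [hx]
  have hu'm : IsMono u' := by
    have hz0 : ∀ w ∈ O, col u' i w = 0 := fun w hw => by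
      have h1 := congrFun (hzu (Pi.single i 1)) w
      rw [hzx, hzi, mulVec_neg, Pi.neg_apply] at h1
      simp only [hw, if_true, one_mul] at h1
      rw [col, hu'x, Pi.smul_apply, smul_eq_mul,
        (mul_eq_zero.mp (show (2 : F) * ((u : Matrix (Fin n) (Fin n) F) *ᵥ Pi.single i 1) w = 0 by
          linear_combination h1)).resolve_left h2, mul_zero]
    obtain ⟨x, hx, y, hy, hxy⟩ := Finset.one_lt_card.mp (by omega : 1 < O.card)
    exact mono_of_zeros hF hn6 hq3 hH hM hK hu'H hxy (hz0 x hx) (hz0 y hy)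
  have hum : IsMono u := fun l => by
    obtain ⟨o, c, e⟩ := hu'm l
    refine ⟨o, (ι ^ N)⁻¹ * c, ?_⟩
    rw [hu'x] at e
    rw [mul_smul, ← e, inv_smul_smul₀ hιN]
  obtain ⟨π, c, hπ, hc, huc⟩ := hum.exists_map
  have hπO : ∀ l ∈ O, π l ∈ O := fun l hl => by
    have h1 := congrFun (hzu (Pi.single l 1)) (π l)
    rw [hzx, show (z : Matrix (Fin n) (Fin n) F) *ᵥ Pi.single l 1 = Pi.single l 1 from funext fun x => by
        rw [hzx]
        rcases eq_or_ne x l with rfl | hx
        · simp [hl]
        · simp [hx], huc, Pi.smul_apply, Pi.single_eq_same, smul_eq_mul, mul_one] at h1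
    by_contra hno
    simp only [hno, if_false] at h1
    exact mul_ne_zero h2 (hc l) (by linear_combination -h1)
  have hfix : ∀ y : Vs, (∀ l, l ∉ O → y l = 0) → h y p = 0 → (u : Matrix (Fin n) (Fin n) F) *ᵥ y = y := by
    intro y hy h1
    refine pow_mulVec_eq ?_ N
    show ((z * R : GL (Fin n) F) : Matrix (Fin n) (Fin n) F) *ᵥ y = y
    rw [Units.val_mul, ← mulVec_mulVec, hRy, h1, mul_zero, zero_smul, sub_zero]
    funext l
    rw [hzx]
    by_cases hl : l ∈ O
    · simp [hl]
    · rw [hy l hl, mul_zero]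
  have hOone : ∀ a ∈ O, π a = a ∧ c a = 1 := by
    intro a ha
    by_cases hpa : p a = 0
    · have h1 := hfix (Pi.single a 1) (fun l hl => Pi.single_eq_of_ne (fun e => hl (by rw [e]; exact ha)) _)
        (by rw [herm_single_left, hpa, q_zero hF, mul_zero])
      rw [huc] at h1
      have e2 := congrFun h1 (π a)
      rw [Pi.smul_apply, Pi.single_eq_same, smul_eq_mul, mul_one] at e2
      rcases eq_or_ne (π a) a with e | e
      · exact ⟨e, by rwa [e, Pi.single_eq_same] at e2⟩
      · rw [Pi.single_eq_of_ne e] at e2; exact absurd e2 (hc a)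
    set B := (O.erase a).filter fun b => p b ≠ 0 with hB
    have hBc : 2 ≤ B.card := by
      have h1 := Finset.card_filter_add_card_filter_not (s := O.erase a) (fun b => p b ≠ 0)
      have h4 : ((O.erase a).filter fun b => ¬ p b ≠ 0).card ≤ 1 := Finset.card_le_one.mpr fun x hx y hy => by
        simp only [Finset.mem_filter, not_not] at hx hy
        by_contra hxy
        exact hgm (mono_of_zeros hF hn6 hq3 hH hM hK hg hxy hx.2 hy.2)
      rw [Finset.card_erase_of_mem ha, hO] at h1
      rw [← hB] at h1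
      omega
    have hpair : ∀ b ∈ B, (π a = a ∨ π a = b) ∧ (π a = a → c a = 1) := by
      intro b hb
      obtain ⟨hbO, hpb⟩ := Finset.mem_filter.mp hb
      obtain ⟨hba, hbO⟩ := Finset.mem_erase.mp hbO
      set y : Vs := Pi.single a (p b ^ q) + Pi.single b (-(p a ^ q)) with hy
      have hya : y a = p b ^ q := by simp [hy, hba.symm]
      have hyo : ∀ l, l ≠ a → l ≠ b → y l = 0 := fun l h1 h2 => by simp [hy, h1, h2]
      have hfy := hfix y (fun l hl => hyo l (fun e => hl (by rw [e]; exact ha)) (fun e => hl (by rw [e]; exact hbO)))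
        (by rw [hy]; simp only [herm_add_left hF, herm_single_left]; ring)
      have h1 : c a * y a = y (π a) := by rw [← mapped_apply hπ huc, hfy]
      refine ⟨?_, fun e => ?_⟩
      · by_contra hno
        simp only [not_or] at hno
        rw [hyo _ hno.1 hno.2, hya] at h1
        exact mul_ne_zero (hc a) (pow_ne_zero _ hpb) h1
      · rw [e, hya] at h1
        exact mul_right_cancel₀ (pow_ne_zero _ hpb) (by rw [h1, one_mul])
    obtain ⟨b, hb, b', hb', hbb⟩ := Finset.one_lt_card.mp hBc
    rcases (hpair b hb).1 with e | e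
    · exact ⟨e, (hpair b hb).2 e⟩
    · have e' := ((hpair b' hb').1).resolve_right fun e' => hbb (e.symm.trans e')
      exact ⟨e', (hpair b hb).2 e'⟩
  obtain ⟨l, hlO, hpl⟩ : ∃ l ∈ O, p l ≠ 0 := by
    by_contra hno
    push Not at hno
    obtain ⟨x, hx, y, hy, hxy⟩ := Finset.one_lt_card.mp (by omega : 1 < O.card)
    exact hgm (mono_of_zeros hF hn6 hq3 hH hM hK hg hxy (hno x hx) (hno y hy))
  have hup : (u : Matrix (Fin n) (Fin n) F) *ᵥ p = p := by
    have h1 : (u : Matrix (Fin n) (Fin n) F) *ᵥ ((R : Matrix (Fin n) (Fin n) F) *ᵥ Pi.single l 1) =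
        (R : Matrix (Fin n) (Fin n) F) *ᵥ Pi.single l 1 := by
      rw [mulVec_mulVec, ← Units.val_mul, huR, Units.val_mul, ← mulVec_mulVec, huc, (hOone l hlO).1, (hOone l hlO).2,
        one_smul]
    rw [hRy, herm_single_left, one_mul, mulVec_sub, mulVec_smul, huc, (hOone l hlO).1, (hOone l hlO).2,
      one_smul] at h1
    exact smul_right_injective Vs (mul_ne_zero h2 (pow_ne_zero q hpl)) (sub_right_injective h1)
  have hap : ∀ a, c a * p a = p (π a) := fun a => by rw [← mapped_apply hπ huc, hup]
  have hnc : ∀ a, c a * c a ^ q = 1 := fun a => by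
    have h1 := apply_K (hH hu'H) (Pi.single a 1) (Pi.single a 1)
    rw [hu'x, huc, herm_smul_left hF, herm_smul_right hF, herm_smul_left hF, herm_smul_right hF,
      herm_single_left, Pi.single_eq_same, one_pow, herm_single_left, Pi.single_eq_same, one_pow] at h1
    have h4 : ι ^ N * (ι ^ N) ^ q = 1 := by rw [pow_right_comm, ← mul_pow, hιn, one_pow]
    linear_combination h1 - (c a * c a ^ q) * h4
  have hπi : π i = i ∨ π i = j := by
    by_contra hno
    rw [not_or, ← hmemO] at hno
    have : π (π i) = π i := (hOone _ hno).1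
    exact ((hmemO i).mp (hπ this ▸ hno)).1 rfl
  rcases hπi with e | e
  · have ej : π j = j := by
      by_contra hne'
      have hjO : π j ∉ O := fun hno => ((hmemO j).mp (hπ (hOone _ hno).1 ▸ hno)).2 rfl
      rw [hmemO, not_and_or, not_not, not_not] at hjO
      exact hij (hπ (e.trans ((hjO.resolve_right hne').symm)))
    refine hu1 (gl_ext fun x => funext fun m => ?_)
    have hm : π m = m ∧ c m = 1 := by
      by_cases hm : m ∈ O
      · exact hOone m hm
      rw [hmemO, not_and_or, not_not, not_not] at hm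
      rcases hm with rfl | rfl
      · exact ⟨e, mul_right_cancel₀ hi (show c m * p m = 1 * p m by rw [hap, e, one_mul])⟩
      · exact ⟨ej, mul_right_cancel₀ hj (show c m * p m = 1 * p m by rw [hap, ej, one_mul])⟩
    have h1 := mapped_apply hπ huc x m
    rw [hm.1, hm.2, one_mul] at h1
    rw [h1, Units.val_one, one_mulVec]
  · refine hne ?_
    show p i * p i ^ q = p j * p j ^ q
    rw [← e, ← hap, mul_pow]
    linear_combination (-(p i * p i ^ q)) * hnc i

theorem eq_suGL_of_three (hn : n = 6) (hq : q = 3) (hH : H ≤ suGL n F q)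
    (hM : ContainsMono q H) {g : GL (Fin n) F} (hg : g ∈ H) (hgm : ¬ IsMono g) : H = suGL n F q := by
  classical
  by_contra hK
  have hn6 : 6 ≤ n := by omega
  have hq3 : 3 ≤ q := by omega
  have hq0 := q_ne_zero hF
  obtain ⟨-, -, h3, -⟩ := exists_sqrt_neg_one hF hq
  have h2 : (2 : F) ≠ 0 := fun e => one_ne_zero (by linear_combination h3 - e)
  -- every entry of a non-monomial element has weight zero or minus one
  have hshape : ∀ w ∈ H, ¬ IsMono w → ∀ k l, col w k l ≠ 0 → col w k l * col w k l ^ q = -1 := by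
    intro w hw hwm k l hl
    set N := col w k l * col w k l ^ q with hN
    have hall : ∀ x ∈ supp (col w k), col w k x * col w k x ^ q = N := fun x hx =>
      norm_eq_of_three hF hn hq hH hM hK hw hwm k (mem_supp.mp hx) hl
    have h1 := h_col hF hH hw k k
    rw [if_pos rfl, Cfsg.hermForm, ← Finset.sum_subset (Finset.subset_univ (supp (col w k))) (fun x _ hx => by
      rw [mem_supp, not_not] at hx; rw [hx, zero_mul]), Finset.sum_congr rfl hall, Finset.sum_const,
      nsmul_eq_mul] at h1
    have hz : (supp (col w k))ᶜ.card ≤ 1 := Finset.card_le_one.mpr fun x hx y hy => by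
      by_contra hxy
      rw [Finset.mem_compl, mem_supp, not_not] at hx hy
      exact hwm (mono_of_zeros hF hn6 hq3 hH hM hK hw hxy hx hy)
    have h4 := Finset.card_compl_add_card (supp (col w k))
    rw [Fintype.card_fin] at h4
    rcases (show (supp (col w k)).card = 5 ∨ (supp (col w k)).card = 6 by omega) with e | e <;> rw [e] at h1 <;>
      push_cast at h1
    · linear_combination -h1 + 2 * N * h3
    · exact absurd (show (1 : F) = 0 by linear_combination -h1 + 2 * N * h3) one_ne_zero
  set k : Fin n := ⟨0, by omega⟩ with hk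
  set row : Vs := fun l => col g l k with hrow
  set A := supp row with hA
  have hAc : 1 < A.card := by
    have h1 : Aᶜ.card ≤ 1 := Finset.card_le_one.mpr fun x hx y hy => by
      rw [Finset.mem_compl, hA, mem_supp, not_not] at hx hy
      exact row_unique hF hn6 hq3 hH hM hK hg hgm hx hy
    have h4 := Finset.card_compl_add_card A
    rw [Fintype.card_fin] at h4
    omega
  obtain ⟨a, ha, b, hb, hab⟩ := Finset.one_lt_card.mp hAc
  obtain ⟨z, hz, -, -, hzx⟩ := exists_diagElt hM (fun l => if l = a ∨ l = b then -1 else 1) (fun l => by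
      split_ifs <;> simp [q_neg hF]) (by
      rw [← Finset.prod_subset (Finset.subset_univ ({a, b} : Finset (Fin n))) (fun l _ hl => by
        simp only [Finset.mem_insert, Finset.mem_singleton, not_or] at hl; simp [hl]), Finset.prod_pair hab]
      simp)
  set p' := col g⁻¹ k with hp'
  have hp'l : ∀ l, p' l = row l ^ q := fun l => by
    have e : h p' (Pi.single l 1) = h (Pi.single k 1) (col g l) := by
      conv_rhs => rw [← mulVec_inv_mulVec g (Pi.single k 1), apply_K (hH hg)]
    rwa [herm_single_right hq0, one_pow, mul_one, herm_single_left, one_mul] at e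
  have hrow1 : ∑ l, row l * row l ^ q = 1 := by
    have h1 := h_col hF hH (H.inv_mem hg) k k
    rw [if_pos rfl, Cfsg.hermForm] at h1
    rw [← h1]
    exact Finset.sum_congr rfl fun l _ => by rw [← hp', hp'l, pow_q_pow_q hF, mul_comm]
  set y := g * z * g⁻¹ with hy
  have hyk : col y k = (g : Matrix (Fin n) (Fin n) F) *ᵥ ((z : Matrix (Fin n) (Fin n) F) *ᵥ p') := by
    rw [col, hy, Units.val_mul, Units.val_mul, ← mulVec_mulVec, ← mulVec_mulVec]
  have hNr : ∀ l ∈ A, row l * row l ^ q = -1 := fun l hl => hshape g hg hgm l k ((mem_supp (v := row)).mp hl)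
  have hent : col y k k = -1 := by
    rw [hyk, mulVec_eq_sum_col]
    show ∑ l, ((z : Matrix (Fin n) (Fin n) F) *ᵥ p') l * col g l k = -1
    have e : ∀ l, ((z : Matrix (Fin n) (Fin n) F) *ᵥ p') l * col g l k =
        row l * row l ^ q + (if l ∈ ({a, b} : Finset (Fin n)) then -2 * (row l * row l ^ q) else 0) := fun l => by
      rw [hzx, hp'l]
      show _ * row l ^ q * row l = _
      simp only [Finset.mem_insert, Finset.mem_singleton]
      split_ifs <;> ring
    rw [Finset.sum_congr rfl (fun l _ => e l), Finset.sum_add_distrib, hrow1, Finset.sum_ite_mem,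
      Finset.univ_inter, Finset.sum_pair hab, hNr a ha, hNr b hb]
    linear_combination 2 * h3
  by_cases hym : IsMono y
  · obtain ⟨o, c, e⟩ := hym k
    have e' : col y k = c • Pi.single o 1 := e
    have hok : o = k := by
      by_contra hne
      have := congrFun e' k
      rw [hent, Pi.smul_apply, Pi.single_eq_of_ne (Ne.symm hne), smul_zero] at this
      exact neg_ne_zero.mpr one_ne_zero this
    subst hok
    have hc : c = -1 := by
      have := congrFun e' k
      rw [hent, Pi.smul_apply, Pi.single_eq_same, smul_eq_mul, mul_one] at this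
      exact this.symm
    have hzp : (z : Matrix (Fin n) (Fin n) F) *ᵥ p' = -p' := by
      rw [← inv_mulVec_mulVec g ((z : Matrix (Fin n) (Fin n) F) *ᵥ p'), ← hyk, e', hc, mulVec_smul, neg_one_smul]
    obtain ⟨x, hx, w, hw, hxw⟩ := Finset.one_lt_card.mp (show 1 < (({a, b} : Finset (Fin n))ᶜ).card by
      rw [Finset.card_compl, Fintype.card_fin, Finset.card_pair hab]; omega)
    have hz0 : ∀ x ∈ (({a, b} : Finset (Fin n))ᶜ), p' x = 0 := fun x hx => by
      simp only [Finset.mem_compl, Finset.mem_insert, Finset.mem_singleton] at hx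
      have := congrFun hzp x
      rw [hzx, if_neg hx, one_mul, Pi.neg_apply] at this
      exact (mul_eq_zero.mp (show (2 : F) * p' x = 0 by linear_combination this)).resolve_left h2
    exact hgm (by simpa using (mono_of_zeros hF hn6 hq3 hH hM hK (H.inv_mem hg) hxw (hz0 x hx) (hz0 w hw)).inv)
  · have := hshape y (H.mul_mem (H.mul_mem hg hz) (H.inv_mem hg)) hym k k (by rw [hent]; exact neg_ne_zero.mpr one_ne_zero)
    rw [hent, q_neg hF, one_pow] at this
    exact h2 (by linear_combination this)

end Cfsg.Agent.Lib.UnitaryFrameSix
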