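import Cfsg.Agent.Lib.UnitaryMax.FrameBase

/-!
Two involutions, and directions separating few points of a plane.
-/

set_option autoImplicit false
set_option linter.unusedSectionVars false

namespace Cfsg.Agent.Lib.UnitaryFrameSix

open Cfsg.Agent.Lib.Forms Cfsg.Agent.Lib.FormMax Cfsg.Agent.Lib.UnitaryMax

/-- Two involutions which are not conjugate in the group they generate centralise a third one there. -/
theorem exists_central {G : Type*} [Group G] [Finite G] {z s : G} (hz : z * z = 1) (hs : s * s = 1)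
    (hne : ∀ d ∈ Subgroup.closure ({z, s} : Set G), d * z * d⁻¹ ≠ s) :
    ∃ k : ℕ, (z * s) ^ k * (z * s) ^ k = 1 ∧ (z * s) ^ k ≠ 1 ∧ (z * s) ^ k * z = z * (z * s) ^ k ∧
      (z * s) ^ k * s = s * (z * s) ^ k := by
  set x := z * s with hx
  have hzi : z⁻¹ = z := inv_eq_of_mul_eq_one_left hz
  have hsi : s⁻¹ = s := inv_eq_of_mul_eq_one_left hs
  have hflip : ∀ m : ℕ, z * x ^ m * z = (x ^ m)⁻¹ := fun m => by
    calc z * x ^ m * z = z * x ^ m * z⁻¹ := by rw [hzi]
      _ = (z * x * z⁻¹) ^ m := by rw [conj_pow]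
      _ = (x⁻¹) ^ m := by rw [hx, mul_inv_rev, hzi, hsi, ← mul_assoc, hz, one_mul]
      _ = (x ^ m)⁻¹ := inv_pow x m
  rcases Nat.even_or_odd (orderOf x) with ⟨k, hk⟩ | ⟨k, hk⟩
  · have hpos := orderOf_pos x
    have h2 : x ^ k * x ^ k = 1 := by rw [← pow_add, ← hk, pow_orderOf_eq_one]
    have hcz : x ^ k * z = z * x ^ k := by
      calc x ^ k * z = z * (z * x ^ k * z) := by rw [← mul_assoc, ← mul_assoc, hz, one_mul]
        _ = z * x ^ k := by rw [hflip, inv_eq_of_mul_eq_one_left h2]
    refine ⟨k, h2, pow_ne_one_of_lt_orderOf (by omega) (by omega), hcz, ?_⟩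
    have hsx : s = z * x := by rw [hx, ← mul_assoc, hz, one_mul]
    rw [hsx, ← mul_assoc, hcz, mul_assoc, ← pow_succ, mul_assoc, ← pow_succ']
  · exfalso
    have hmem : x ∈ Subgroup.closure ({z, s} : Set G) :=
      Subgroup.mul_mem _ (Subgroup.subset_closure (by simp)) (Subgroup.subset_closure (by simp))
    refine hne (z * x ^ (k + 1)) (Subgroup.mul_mem _ (Subgroup.subset_closure (by simp))
      (Subgroup.pow_mem _ hmem _)) ?_
    have h1 : (x ^ (k + 1))⁻¹ = z * x ^ (k + 1) * z := (hflip _).symm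
    have h2 : x ^ (k + 1) * x ^ (k + 1) = x := by
      rw [← pow_add, show k + 1 + (k + 1) = orderOf x + 1 by omega, pow_succ, pow_orderOf_eq_one, one_mul]
    calc z * x ^ (k + 1) * z * (z * x ^ (k + 1))⁻¹
        = z * x ^ (k + 1) * z * ((x ^ (k + 1))⁻¹ * z) := by rw [mul_inv_rev, hzi]
      _ = z * x ^ (k + 1) * (z * z) * x ^ (k + 1) * (z * z) := by rw [h1]; group
      _ = z * (x ^ (k + 1) * x ^ (k + 1)) := by rw [hz]; group
      _ = s := by rw [h2, hx, ← mul_assoc, hz, one_mul]

/-- The common fixed points stay fixed. -/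
theorem pow_mulVec_eq {F : Type*} [Field F] {n : ℕ} {g : GL (Fin n) F} {v : Fin n → F}
    (hv : (g : Matrix (Fin n) (Fin n) F).mulVec v = v) (k : ℕ) :
    ((g ^ k : GL (Fin n) F) : Matrix (Fin n) (Fin n) F).mulVec v = v := by
  induction k with
  | zero => rw [pow_zero, Units.val_one, Matrix.one_mulVec]
  | succ k ih => rw [pow_succ, Units.val_mul, ← Matrix.mulVec_mulVec, hv, ih]

variable {F : Type*} [Field F] [Fintype F] {q : ℕ}

/-- A norm one direction separating four points. -/
theorem exists_separating {ι : Type*} [DecidableEq ι] (hF : Fintype.card F = q ^ 2) (hq : 5 ≤ q)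
    {T : Finset ι} {A B : ι → F} (hT : 4 ≤ T.card) (hinj : ∀ a ∈ T, ∀ b ∈ T, A a = A b → B a = B b → a = b)
    (hcond : 5 ≤ T.card ∨ ∃ a ∈ T, ∃ b ∈ T, a ≠ b ∧ B a = B b) :
    ∃ φ : F, φ * φ ^ q = 1 ∧ ∃ s ⊆ T, s.card = 4 ∧
      ∀ a ∈ s, ∀ b ∈ s, A a - φ * B a = A b - φ * B b → a = b := by
  classical
  set sl : ι → ι → F := fun a b => (A a - A b) / (B a - B b) with hsl
  -- a collision under a norm one direction determines that direction
  have hkey : ∀ φ ∈ normOne q F, ∀ a ∈ T, ∀ b ∈ T, a ≠ b → A a - φ * B a = A b - φ * B b → sl a b = φ := by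
    intro φ _ a ha b hb hne e
    have hB : B a - B b ≠ 0 := fun e0 =>
      hne (hinj a ha b hb (by linear_combination e + φ * e0) (sub_eq_zero.mp e0))
    rw [hsl, div_eq_iff hB]
    linear_combination e
  by_contra hno
  push Not at hno
  obtain ⟨c, hc⟩ : ∃ c : Fin 5 → ι, (∀ i, c i ∈ T) ∧ (Function.Injective c ∨
      (T.card = 4 ∧ Function.Injective (fun i : Fin 4 => c i.castSucc) ∧ B (c 0) = B (c 1))) := by
    by_cases h5 : 5 ≤ T.card
    · obtain ⟨s, hs, hs5⟩ := Finset.exists_subset_card_eq h5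
      let e := (s.equivFinOfCardEq hs5).symm
      exact ⟨fun i => e i, fun i => hs (e i).2, Or.inl fun i j hij => e.injective (Subtype.ext hij)⟩
    · obtain ⟨a, ha, b, hb, hab, hB⟩ := hcond.resolve_left h5
      obtain ⟨u, v, huv, he⟩ := Finset.card_eq_two.mp (show ((T.erase a).erase b).card = 2 by
        rw [Finset.card_erase_of_mem (Finset.mem_erase.mpr ⟨hab.symm, hb⟩), Finset.card_erase_of_mem ha]; omega)
      have hu : u ∈ (T.erase a).erase b := by rw [he]; simp
      have hv : v ∈ (T.erase a).erase b := by rw [he]; simp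
      simp only [Finset.mem_erase] at hu hv
      refine ⟨![a, b, u, v, a], fun i => ?_, Or.inr ⟨by omega, fun i j hij => ?_, hB⟩⟩
      · fin_cases i <;> simp [ha, hb, hu.2.2, hv.2.2]
      · fin_cases i <;> fin_cases j <;> simp_all
  rcases hc with ⟨hcT, hcinj | ⟨-, hcinj, hB⟩⟩
  · -- five points: at least two collisions in each of at least six directions
    set P := (Finset.univ : Finset (Fin 5 × Fin 5)).filter fun p => p.1 < p.2 with hP
    have hPc : P.card = 10 := by rw [hP]; rfl
    have htwo : ∀ φ ∈ normOne q F, 2 ≤ (P.filter fun p => sl (c p.1) (c p.2) = φ).card := by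
      intro φ hφ
      have hcol : ∀ R : Finset (Fin 5), R.card = 4 →
          ∃ i ∈ R, ∃ j ∈ R, i ≠ j ∧ (i, j) ∈ P ∧ sl (c i) (c j) = φ := by
        intro R hR
        obtain ⟨a, ha, b, hb, e, hne⟩ := hno φ (mem_normOne.mp hφ) (R.image c)
          (fun x hx => by obtain ⟨i, -, rfl⟩ := Finset.mem_image.mp hx; exact hcT i)
          (by rw [Finset.card_image_of_injective _ hcinj, hR])
        obtain ⟨i, hi, rfl⟩ := Finset.mem_image.mp ha
        obtain ⟨j, hj, rfl⟩ := Finset.mem_image.mp hb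
        rcases lt_or_gt_of_ne (show i ≠ j from fun e' => hne (e' ▸ rfl)) with hlt | hgt
        · exact ⟨i, hi, j, hj, hlt.ne, by simp [hP, hlt], hkey φ hφ _ (hcT i) _ (hcT j) hne e⟩
        · exact ⟨j, hj, i, hi, hgt.ne, by simp [hP, hgt], hkey φ hφ _ (hcT j) _ (hcT i) (Ne.symm hne) e.symm⟩
      obtain ⟨i, -, j, -, -, hij, he⟩ := hcol (Finset.univ.erase 0) (by simp)
      obtain ⟨i', hi', j', -, -, hij', he'⟩ := hcol (Finset.univ.erase i) (by simp)
      exact Finset.one_lt_card.mpr ⟨(i, j), Finset.mem_filter.mpr ⟨hij, he⟩, (i', j'),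
        Finset.mem_filter.mpr ⟨hij', he'⟩,
        fun e => Finset.ne_of_mem_erase hi' (congrArg Prod.fst e).symm⟩
    have h1 : ∑ φ ∈ normOne q F, (P.filter fun p => sl (c p.1) (c p.2) = φ).card ≤ P.card := by
      rw [← Finset.card_biUnion fun x _ y _ hxy => Finset.disjoint_filter.mpr fun p _ e1 e2 => hxy (e1.symm.trans e2)]
      exact Finset.card_le_card (Finset.biUnion_subset.mpr fun x _ => Finset.filter_subset _ _)
    have h2 := Finset.card_nsmul_le_sum (normOne q F) _ 2 htwo
    rw [card_normOne hF, smul_eq_mul] at h2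
    omega
  · set d : Fin 4 → ι := fun i => c i.castSucc with hd
    set P := ((Finset.univ : Finset (Fin 4 × Fin 4)).filter fun p => p.1 < p.2).erase (0, 1) with hP
    have hPc : P.card = 5 := by rw [hP]; rfl
    have hsub : normOne q F ⊆ P.image fun p => sl (d p.1) (d p.2) := by
      intro φ hφ
      obtain ⟨a, ha, b, hb, e, hne⟩ := hno φ (mem_normOne.mp hφ) (Finset.univ.image d)
        (fun x hx => by obtain ⟨i, -, rfl⟩ := Finset.mem_image.mp hx; exact hcT _)
        (by rw [Finset.card_image_of_injective _ hcinj]; simp)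
      obtain ⟨i, -, rfl⟩ := Finset.mem_image.mp ha
      obtain ⟨j, -, rfl⟩ := Finset.mem_image.mp hb
      have hne0 : ∀ i j, sl (d i) (d j) = φ → ¬(i = 0 ∧ j = 1) := by
        rintro i j e' ⟨rfl, rfl⟩
        have : sl (d 0) (d 1) = 0 := by simp [hsl, hd, hB]
        rw [this] at e'
        have := mem_normOne.mp hφ
        rw [← e', zero_mul] at this
        exact zero_ne_one this
      rcases lt_or_gt_of_ne (show i ≠ j from fun e' => hne (e' ▸ rfl)) with hlt | hgt
      · have h1 := hkey φ hφ _ (hcT _) _ (hcT _) hne e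
        exact Finset.mem_image.mpr ⟨(i, j), by simp [hP, hlt, hne0 i j h1], h1⟩
      · have h1 := hkey φ hφ _ (hcT _) _ (hcT _) (Ne.symm hne) e.symm
        exact Finset.mem_image.mpr ⟨(j, i), by simp [hP, hgt, hne0 j i h1], h1⟩
    have h1 := (Finset.card_le_card hsub).trans Finset.card_image_le
    rw [card_normOne hF, hPc] at h1
    omega

end Cfsg.Agent.Lib.UnitaryFrameSix
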