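import Cfsg.Agent.Lib.UnitaryFrameSix.Basic
import Cfsg.Agent.Lib.UnitaryFrameSix.Points

/-!
Odd characteristic: a plane in general position for a non-monomial element gives a contradiction.
-/

set_option autoImplicit false
set_option linter.unusedSectionVars false

namespace Cfsg.Agent.Lib.UnitaryFrameSix

open Matrix Cfsg.Agent.Lib.Forms Cfsg.Agent.Lib.FormMax Cfsg.Agent.Lib.UnitaryMax

variable {F : Type*} [Field F] [Fintype F] {n q : ℕ}

local notation "Vs" => (Fin n → F)
local notation "h" => Cfsg.hermForm n F q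

variable (hF : Fintype.card F = q ^ 2) {H : Subgroup (GL (Fin n) F)}
include hF

/-- Two coordinates orthogonal to four in general position cannot exist. -/
theorem false_of_odd (hn : n = 6) (hq : 3 ≤ q) (h2 : (2 : F) ≠ 0) (hH : H ≤ suGL n F q) (hM : ContainsMono q H)
    (hK : H ≠ suGL n F q) {g : GL (Fin n) F} (hg : g ∈ H) (hgm : ¬ IsMono g) {a b k : Fin n} (hab : a ≠ b)
    (hak : a ≠ k) (hbk : b ≠ k) {φ : F} (hφ : φ * φ ^ q = 1) {O : Finset (Fin n)} (hO : O.card = 4)
    (hmin : ∀ x ∈ O, ∀ y ∈ O, x ≠ y →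
      (col g a - φ • col g b) x * col g k y - (col g a - φ • col g b) y * col g k x ≠ 0) : False := by
  classical
  have hn6 : 6 ≤ n := by omega
  have hq0 := q_ne_zero hF
  have hneg : (-1 : F) ≠ 1 := fun e => h2 (by linear_combination -e)
  obtain ⟨i, j, hij, hOc⟩ := Finset.card_eq_two.mp (show Oᶜ.card = 2 by rw [Finset.card_compl, Fintype.card_fin, hO, hn])
  have hmemO : ∀ l, l ∈ O ↔ l ≠ i ∧ l ≠ j := fun l => by
    rw [← not_iff_not, ← Finset.mem_compl, hOc]; simp [or_iff_not_imp_left]
  -- the diagonal involution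
  set dz : Vs := fun l => if l ∈ O then 1 else -1 with hdz
  obtain ⟨z, hzH, -, -, hzx⟩ := exists_diagElt hM dz (fun l => by
      simp only [hdz]; split_ifs <;> simp [q_neg hF]) (by
      rw [← Finset.prod_subset (Finset.subset_univ Oᶜ) (fun l _ hl => by
        simp only [Finset.mem_compl, not_not] at hl; simp [hdz, hl]), hOc, Finset.prod_pair hij]
      simp [hdz, hmemO])
  -- the involution with eigenspace spanned by two axes
  set dt : Vs := Function.update (Function.update (Function.update (fun _ => (1 : F)) a (φ ^ q)) b φ) k (-1) with hdt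
  have hdta : dt a = φ ^ q := by simp [hdt, hak, hab]
  have hdtb : dt b = φ := by simp [hdt, hbk]
  have hdtk : dt k = -1 := by simp [hdt]
  have hdto : ∀ l, l ≠ a → l ≠ b → l ≠ k → dt l = 1 := fun l h1 h3 h4 => by simp [hdt, h1, h3, h4]
  obtain ⟨t, htH, -, -, htx⟩ := exists_monoElt hM (Equiv.swap a b) dt (fun l => by
      rcases eq_or_ne l a with rfl | h1
      · rw [hdta, pow_q_pow_q hF, mul_comm, hφ]
      rcases eq_or_ne l b with rfl | h3
      · rw [hdtb, hφ]
      rcases eq_or_ne l k with rfl | h4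
      · rw [hdtk, q_neg hF, one_pow]; ring
      · rw [hdto l h1 h3 h4, one_pow, mul_one]) (by
      rw [Equiv.Perm.sign_swap hab, ← Finset.prod_subset (Finset.subset_univ {a, b, k}) (fun l _ hl => by
        simp only [Finset.mem_insert, Finset.mem_singleton, not_or] at hl
        exact hdto l hl.1 hl.2.1 hl.2.2), Finset.prod_insert (by simp [hab, hak]), Finset.prod_pair hbk,
        hdta, hdtb, hdtk]
      simp
      linear_combination hφ)
  have hswk : Equiv.swap a b k = k := Equiv.swap_apply_of_ne_of_ne hak.symm hbk.symm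
  set f : Vs := Pi.single a 1 - Pi.single b φ with hf
  have hxf : ∀ x : Vs, h x f = x a - φ ^ q * x b := fun x => by
    rw [hf, h_sub_right hF, herm_single_right hq0, herm_single_right hq0, one_pow]; ring
  have htv : ∀ x : Vs, (t : Matrix (Fin n) (Fin n) F) *ᵥ x = x - h x f • f - (2 * x k) • Pi.single k 1 := by
    intro x
    funext l
    rw [htx, hxf, hf]
    rcases eq_or_ne l a with rfl | h1
    · simp [hdta, hab, hak]
    rcases eq_or_ne l b with rfl | h3
    · simp [hdtb, hbk, hab.symm]; linear_combination (x l) * hφ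
    rcases eq_or_ne l k with rfl | h4
    · simp [hdtk, hswk, h1, h3]; ring
    · simp [hdto l h1 h3 h4, Equiv.swap_apply_of_ne_of_ne h1 h3, h1, h3, h4]
  set P : Vs := col g a - φ • col g b with hP
  set K : Vs := col g k with hKdef
  have hgf : (g : Matrix (Fin n) (Fin n) F) *ᵥ f = P := by
    rw [hf, hP, mulVec_sub, col, col, ← mulVec_smul, ← Pi.single_smul, smul_eq_mul, mul_one]
  set s := g * t * g⁻¹ with hs
  have hsH : s ∈ H := H.mul_mem (H.mul_mem hg htH) (H.inv_mem hg)
  have hsy : ∀ y : Vs, (s : Matrix (Fin n) (Fin n) F) *ᵥ y = y - h y P • P - (2 * h y K) • K := by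
    intro y
    rw [hs, Units.val_mul, Units.val_mul, ← mulVec_mulVec, ← mulVec_mulVec, htv, mulVec_sub, mulVec_sub,
      mulVec_smul, mulVec_smul, mulVec_inv_mulVec, hgf]
    have h1 : ∀ w : Vs, h (((g⁻¹ : GL (Fin n) F) : Matrix (Fin n) (Fin n) F) *ᵥ y) w =
        h y ((g : Matrix (Fin n) (Fin n) F) *ᵥ w) := fun w => by
      conv_rhs => rw [← mulVec_inv_mulVec g y, apply_K (hH hg)]
    have h3 : (((g⁻¹ : GL (Fin n) F) : Matrix (Fin n) (Fin n) F) *ᵥ y) k = h y K := by
      rw [hKdef, col, ← h1, herm_single_right hq0, one_pow, mul_one]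
    rw [h1, hgf, h3]
  have hzz : z * z = 1 := gl_ext fun x => funext fun l => by
    rw [Units.val_mul, ← mulVec_mulVec, hzx, hzx, Units.val_one, one_mulVec]
    simp only [hdz]; split_ifs <;> ring
  have htt : t * t = 1 := gl_ext fun x => funext fun l => by
    rw [Units.val_mul, ← mulVec_mulVec, htx, htx, Units.val_one, one_mulVec]
    rcases eq_or_ne l a with rfl | h1
    · rw [Equiv.swap_apply_left, hdta, hdtb, Equiv.swap_apply_right]; linear_combination (x l) * hφ
    rcases eq_or_ne l b with rfl | h3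
    · rw [Equiv.swap_apply_right, hdta, hdtb, Equiv.swap_apply_left]; linear_combination (x l) * hφ
    rcases eq_or_ne l k with rfl | h4
    · rw [hswk, hdtk, hswk]; ring
    · rw [Equiv.swap_apply_of_ne_of_ne h1 h3, hdto l h1 h3 h4, Equiv.swap_apply_of_ne_of_ne h1 h3]; ring
  have hss : s * s = 1 := by
    rw [hs, show g * t * g⁻¹ * (g * t * g⁻¹) = g * (t * t) * g⁻¹ by group, htt, mul_one, mul_inv_cancel]
  obtain ⟨N, huu, hu1, huz, hus⟩ := exists_central hzz hss (fun d hd hdz' => by
    have hdH : d ∈ H := (Subgroup.closure_le H).mpr (by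
      intro w hw; rcases hw with rfl | rfl <;> assumption) hd
    set e := g⁻¹ * d with he
    have heH : e ∈ H := H.mul_mem (H.inv_mem hg) hdH
    have hez : e * z = t * e := by
      have : t = g⁻¹ * s * g := by rw [hs]; group
      rw [he, this, ← hdz']; group
    -- the two negated axes go into the negated axes
    have hneg' : ∀ l, l ∉ O → (t : Matrix (Fin n) (Fin n) F) *ᵥ col e l = -col e l := fun l hl => by
      rw [col, mulVec_mulVec, ← Units.val_mul, ← hez, Units.val_mul, ← mulVec_mulVec,
        show (z : Matrix (Fin n) (Fin n) F) *ᵥ Pi.single l 1 = -Pi.single l 1 from funext fun x => by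
          rw [hzx]
          rcases eq_or_ne x l with rfl | hx
          · simp [hdz, hl]
          · simp [hx], mulVec_neg]
    have hout : ∀ l, l ∉ O → ∀ x, x ≠ a → x ≠ b → x ≠ k → col e l x = 0 := fun l hl x h1 h3 h4 => by
      have h5 := congrFun (hneg' l hl) x
      rw [htx, hdto x h1 h3 h4, Equiv.swap_apply_of_ne_of_ne h1 h3, one_mul, Pi.neg_apply] at h5
      exact (mul_eq_zero.mp (show (2 : F) * col e l x = 0 by linear_combination h5)).resolve_left h2
    have hiO : i ∉ O := fun hc => ((hmemO i).mp hc).1 rfl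
    have hjO : j ∉ O := fun hc => ((hmemO j).mp hc).2 rfl
    obtain ⟨x, y, hxy, hxs⟩ : ∃ x y, x ≠ y ∧ ∀ w ∈ ({x, y} : Finset (Fin n)), w ≠ a ∧ w ≠ b ∧ w ≠ k := by
      obtain ⟨s', hs', hs2⟩ := Finset.exists_subset_card_eq (s := ({a, b, k} : Finset (Fin n))ᶜ) (n := 2) (by
        rw [Finset.card_compl, Fintype.card_fin]
        have := Finset.card_le_three (a := a) (b := b) (c := k)
        omega)
      obtain ⟨x, y, hxy, rfl⟩ := Finset.card_eq_two.mp hs2
      exact ⟨x, y, hxy, fun w hw => by simpa using hs' hw⟩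
    have hem : IsMono e := mono_of_zeros hF hn6 hq hH hM hK heH hxy
      (hout i hiO x (hxs x (by simp)).1 (hxs x (by simp)).2.1 (hxs x (by simp)).2.2)
      (hout i hiO y (hxs y (by simp)).1 (hxs y (by simp)).2.1 (hxs y (by simp)).2.2)
    obtain ⟨π, c, hπ, hc, hec⟩ := hem.exists_map
    have htok : ∀ l, l ∉ O → π l = k := fun l hl => by
      by_contra hne
      have hco : ∀ x, col e l x = c l * (Pi.single (π l) (1 : F) : Vs) x := fun x => by
        rw [col, hec, Pi.smul_apply, smul_eq_mul]
      by_cases hin : π l = a ∨ π l = b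
      · have hp' : Equiv.swap a b (π l) ≠ π l ∧ dt (Equiv.swap a b (π l)) ≠ 0 := by
          have hφ0 : φ ≠ 0 := left_ne_zero_of_mul_eq_one hφ
          rcases hin with e' | e' <;> rw [e'] <;> simp [hdta, hdtb, hab, hab.symm, hφ0, hq0]
        have h1 := congrFun (hneg' l hl) (Equiv.swap a b (π l))
        rw [htx, Equiv.swap_apply_self, Pi.neg_apply, hco, hco, Pi.single_eq_same,
          Pi.single_eq_of_ne hp'.1, mul_one, mul_zero, neg_zero] at h1
        exact mul_ne_zero hp'.2 (hc l) h1
      · simp only [not_or] at hin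
        have h1 := hout l hl (π l) hin.1 hin.2 hne
        rw [hco, Pi.single_eq_same, mul_one] at h1
        exact hc l h1
    exact hij (hπ ((htok i hiO).trans (htok j hjO).symm)))
  set u := (z * s) ^ N with hu
  have huH : u ∈ H := H.pow_mem (H.mul_mem hzH hsH) N
  have hzu : ∀ x : Vs, (z : Matrix (Fin n) (Fin n) F) *ᵥ ((u : Matrix (Fin n) (Fin n) F) *ᵥ x) =
      (u : Matrix (Fin n) (Fin n) F) *ᵥ ((z : Matrix (Fin n) (Fin n) F) *ᵥ x) := fun x => by
    rw [mulVec_mulVec, mulVec_mulVec, ← Units.val_mul, ← Units.val_mul, huz]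
  have hum : IsMono u := by
    obtain ⟨x, y, hxy, hOxy⟩ : ∃ x y, x ≠ y ∧ ∀ w ∈ ({x, y} : Finset (Fin n)), w ∈ O := by
      obtain ⟨s', hs', hs2⟩ := Finset.exists_subset_card_eq (s := O) (n := 2) (by omega)
      obtain ⟨x, y, hxy, rfl⟩ := Finset.card_eq_two.mp hs2
      exact ⟨x, y, hxy, fun w hw => hs' hw⟩
    have hz0 : ∀ w ∈ O, col u i w = 0 := fun w hw => by
      have h1 := congrFun (hzu (Pi.single i 1)) w
      rw [hzx, show (z : Matrix (Fin n) (Fin n) F) *ᵥ Pi.single i 1 = -Pi.single i 1 from funext fun x => by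
          rw [hzx]
          rcases eq_or_ne x i with rfl | hx
          · simp [hdz, hmemO]
          · simp [hx], mulVec_neg, Pi.neg_apply, hdz] at h1
      simp only [hw, if_true, one_mul] at h1
      exact (mul_eq_zero.mp (show (2 : F) * col u i w = 0 by linear_combination h1)).resolve_left h2
    exact mono_of_zeros hF hn6 hq hH hM hK huH hxy (hz0 x (hOxy x (by simp))) (hz0 y (hOxy y (by simp)))
  obtain ⟨π, c, hπ, hc, huc⟩ := hum.exists_map
  have hπO : ∀ l ∈ O, π l ∈ O := fun l hl => by
    have h1 := congrFun (hzu (Pi.single l 1)) (π l)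
    rw [hzx, show (z : Matrix (Fin n) (Fin n) F) *ᵥ Pi.single l 1 = Pi.single l 1 from funext fun x => by
        rw [hzx]
        rcases eq_or_ne x l with rfl | hx
        · simp [hdz, hl]
        · simp [hx], huc, Pi.smul_apply, Pi.single_eq_same, smul_eq_mul, mul_one] at h1
    by_contra hno
    simp only [hdz, hno, if_false] at h1
    exact mul_ne_zero h2 (hc l) (by linear_combination -h1)
  have hfix : ∀ y : Vs, (∀ l, l ∉ O → y l = 0) → h y P = 0 → h y K = 0 →
      (u : Matrix (Fin n) (Fin n) F) *ᵥ y = y := fun y hy h1 h3 => by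
    refine pow_mulVec_eq ?_ N
    have hsy' : (s : Matrix (Fin n) (Fin n) F) *ᵥ y = y := by rw [hsy, h1, h3]; simp
    show (((z * s : GL (Fin n) F)) : Matrix (Fin n) (Fin n) F) *ᵥ y = y
    rw [Units.val_mul, ← mulVec_mulVec, hsy']
    funext l
    rw [hzx]
    by_cases hl : l ∈ O
    · simp [hdz, hl]
    · rw [hy l hl, mul_zero]
  have hO1 := fixes_four hF hπ hc huc hO hπO hmin hfix
  have hcomb : ∀ l ∈ O, (u : Matrix (Fin n) (Fin n) F) *ᵥ (P l ^ q • P + (2 * K l ^ q) • K) =
      P l ^ q • P + (2 * K l ^ q) • K := by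
    intro l hl
    have e : P l ^ q • P + (2 * K l ^ q) • K = Pi.single l 1 - (s : Matrix (Fin n) (Fin n) F) *ᵥ Pi.single l 1 := by
      rw [hsy, herm_single_left, herm_single_left, one_mul, one_mul]; abel
    rw [e, mulVec_sub, mulVec_mulVec, ← Units.val_mul, hus, Units.val_mul, ← mulVec_mulVec]
    rw [show (u : Matrix (Fin n) (Fin n) F) *ᵥ Pi.single l 1 = Pi.single l 1 from hO1 l hl]
  obtain ⟨x, hx, y, hy, hxy⟩ := Finset.one_lt_card.mp (by omega : 1 < O.card)
  obtain ⟨-, huK⟩ := fixes_pair hF h2 (hmin x hx y hy hxy) (hcomb x hx) (hcomb y hy)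
  -- the two other coordinates
  have hπ' : ∀ l ∈ O, π l = l ∧ c l = 1 := fun l hl => by
    have h1 : (Pi.single l 1 : Vs) = c l • Pi.single (π l) 1 := by rw [← huc]; exact (hO1 l hl).symm
    have h3 := congrFun h1 (π l)
    rw [Pi.smul_apply, Pi.single_eq_same, smul_eq_mul, mul_one] at h3
    rcases eq_or_ne (π l) l with e | e
    · rw [e, Pi.single_eq_same] at h3; exact ⟨e, h3.symm⟩
    · rw [Pi.single_eq_of_ne e] at h3; exact absurd h3.symm (hc l)
  have hπE : ∀ l, l ∉ O → π l = i ∨ π l = j := fun l hl => by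
    by_contra hno
    rw [not_or, ← hmemO] at hno
    exact hl (hπ (hπ' (π l) hno).1 ▸ hno)
  have huu' : ∀ l, col u (π l) (π (π l)) * c l = 1 ∧ π (π l) = l := fun l => by
    have h1 : (u : Matrix (Fin n) (Fin n) F) *ᵥ col u l = Pi.single l 1 := by
      rw [col, mulVec_mulVec, ← Units.val_mul, huu, Units.val_one, one_mulVec]
    rw [col, huc, mulVec_smul, huc] at h1
    have h3 := congrFun h1 (π (π l))
    simp only [Pi.smul_apply, Pi.single_eq_same, smul_eq_mul, mul_one] at h3
    have h4 : π (π l) = l := by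
      by_contra e
      rw [Pi.single_eq_of_ne e] at h3
      exact mul_ne_zero (hc l) (hc _) h3
    refine ⟨?_, h4⟩
    rw [col, huc, Pi.smul_apply, Pi.single_eq_same, smul_eq_mul, mul_one, mul_comm, h3, h4, Pi.single_eq_same]
  have hiO : i ∉ O := fun hc => ((hmemO i).mp hc).1 rfl
  have hjO : j ∉ O := fun hc => ((hmemO j).mp hc).2 rfl
  have hsq : ∀ l, c (π l) * c l = 1 := fun l => by
    have h1 := (huu' l).1
    rwa [col, huc, Pi.smul_apply, Pi.single_eq_same, smul_eq_mul, mul_one] at h1
  have hudet : (u : Matrix (Fin n) (Fin n) F).det = 1 := (mem_suGL_iff.mp (hH huH)).2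
  have hmemE : ∀ l, l ∉ O → l = i ∨ l = j := fun l hl => by
    rwa [hmemO, not_and_or, not_not, not_not] at hl
  have hprod : ∀ d : Vs, (∀ l ∈ O, d l = 1) → ∏ l, d l = d i * d j := fun d hd => by
    rw [← Finset.prod_subset (Finset.subset_univ Oᶜ) (fun l _ hl => hd l (by simpa using hl)), hOc,
      Finset.prod_pair hij]
  rcases hπE i hiO with hi | hi
  · have hj : π j = j := (hπE j hjO).resolve_left fun e => hij (hπ (hi.trans e.symm))
    have hid : ∀ l, π l = l := fun l => by
      by_cases hl : l ∈ O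
      · exact (hπ' l hl).1
      · rcases hmemE l hl with rfl | rfl <;> assumption
    have hux : ∀ x m, ((u : Matrix (Fin n) (Fin n) F) *ᵥ x) m = c m * x m := fun x m => by
      conv_lhs => rw [← hid m]
      exact mapped_apply hπ huc x m
    have hd := det_of_map (1 : Equiv.Perm (Fin n)) (d := c) (by simpa using hux)
    rw [hudet, hprod c (fun l hl => (hπ' l hl).2), Equiv.Perm.sign_one] at hd
    simp at hd
    have hij1 : c i = c j := by
      have h1 := hsq j
      rw [hj] at h1
      linear_combination (c i) * (-h1) + c j * (-hd)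
    have hK0 : c i = 1 ∨ (K i = 0 ∧ K j = 0) := by
      by_cases h1 : c i = 1
      · exact Or.inl h1
      refine Or.inr ⟨?_, ?_⟩
      · have := congrFun huK i
        rw [hux] at this
        exact (mul_eq_zero.mp (show (c i - 1) * K i = 0 by linear_combination this)).resolve_left (sub_ne_zero.mpr h1)
      · have := congrFun huK j
        rw [hux, ← hij1] at this
        exact (mul_eq_zero.mp (show (c i - 1) * K j = 0 by linear_combination this)).resolve_left (sub_ne_zero.mpr h1)
    rcases hK0 with h1 | ⟨hKi, hKj⟩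
    · refine hu1 (gl_ext fun x => funext fun m => ?_)
      rw [hux, Units.val_one, one_mulVec]
      by_cases hm : m ∈ O
      · rw [(hπ' m hm).2, one_mul]
      · rcases hmemE m hm with rfl | rfl
        · rw [h1, one_mul]
        · rw [← hij1, h1, one_mul]
    · exact hgm (mono_of_zeros hF hn6 hq hH hM hK hg hij hKi hKj)
  · have hj : π j = i := by
      have := (huu' i).2
      rwa [hi] at this
    have hux : ∀ x m, ((u : Matrix (Fin n) (Fin n) F) *ᵥ x) m = c (Equiv.swap i j m) * x (Equiv.swap i j m) := by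
      intro x m
      have hsw : π (Equiv.swap i j m) = m := by
        by_cases hm : m ∈ O
        · rw [Equiv.swap_apply_of_ne_of_ne ((hmemO m).mp hm).1 ((hmemO m).mp hm).2, (hπ' m hm).1]
        · rcases hmemE m hm with rfl | rfl
          · rw [Equiv.swap_apply_left, hj]
          · rw [Equiv.swap_apply_right, hi]
      conv_lhs => rw [← hsw]
      exact mapped_apply hπ huc x _
    have hd := det_of_map (Equiv.swap i j) (d := fun m => c (Equiv.swap i j m)) hux
    rw [hudet, Equiv.prod_comp (Equiv.swap i j) c, hprod c (fun l hl => (hπ' l hl).2),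
      Equiv.Perm.sign_swap hij] at hd
    simp at hd
    have h1 := hsq i
    rw [hi] at h1
    exact h2 (by linear_combination hd - h1)

end Cfsg.Agent.Lib.UnitaryFrameSix
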