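import Cfsg.Agent.Lib.UnitaryFrameSix.Odd
import Cfsg.Agent.Lib.UnitaryMax.Decomp

/-!
Choosing a plane in general position, and the case of at least five in odd characteristic.
-/

set_option autoImplicit false
set_option linter.unusedSectionVars false

namespace Cfsg.Agent.Lib.UnitaryFrameSix

open Matrix Cfsg.Agent.Lib.Forms Cfsg.Agent.Lib.FormMax Cfsg.Agent.Lib.UnitaryMax

variable {F : Type*} [Field F] [Fintype F] [DecidableEq F] {n q : ℕ}

local notation "Vs" => (Fin n → F)
local notation "h" => Cfsg.hermForm n F q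

/-- The coordinates where a vector is not zero. -/
abbrev supp (v : Vs) : Finset (Fin n) := Finset.univ.filter fun l => v l ≠ 0

/-- The ratios of a vector to another one. -/
abbrev vals (K w : Vs) : Finset F := (supp K).image fun l => w l / K l

/-- The pairs of ratios. -/
abbrev pts (K v w : Vs) : Finset (F × F) := (supp K).image fun l => (v l / K l, w l / K l)

theorem mem_supp {v : Vs} {l : Fin n} : l ∈ supp v ↔ v l ≠ 0 := by simp

variable (hF : Fintype.card F = q ^ 2) {H : Subgroup (GL (Fin n) F)}
include hF

theorem h_col (hH : H ≤ suGL n F q) {g : GL (Fin n) F} (hg : g ∈ H) (a b : Fin n) :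
    h (col g a) (col g b) = if a = b then 1 else 0 := by
  have hq0 := q_ne_zero hF
  rw [apply_K (hH hg), herm_single_left, one_mul]
  split_ifs with e
  · rw [e, Pi.single_eq_same, one_pow]
  · rw [Pi.single_eq_of_ne e, q_zero hF]

theorem row_unique (hn : 6 ≤ n) (hq : 3 ≤ q) (hH : H ≤ suGL n F q) (hM : ContainsMono q H)
    (hK : H ≠ suGL n F q) {g : GL (Fin n) F} (hg : g ∈ H) (hgm : ¬ IsMono g) {a b l : Fin n}
    (ha : col g a l = 0) (hb : col g b l = 0) : a = b := by
  by_contra hab
  have hq0 := q_ne_zero hF
  have h1 : ∀ x, col g x l = 0 → col g⁻¹ l x = 0 := fun x hx => by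
    have e : h (col g⁻¹ l) (Pi.single x 1) = h (Pi.single l 1) (col g x) := by
      conv_rhs => rw [← mulVec_inv_mulVec g (Pi.single l 1), apply_K (hH hg)]
    rwa [herm_single_right hq0, one_pow, mul_one, herm_single_left, hx, q_zero hF, mul_zero] at e
  exact hgm (by simpa using (mono_of_zeros hF hn hq hH hM hK (H.inv_mem hg) hab (h1 a ha) (h1 b hb)).inv)

/-- Some further column separates two coordinates with equal ratios. -/
theorem exists_refine (hH : H ≤ suGL n F q) {g : GL (Fin n) F} (hg : g ∈ H) {K : Vs} (hK0 : K ≠ 0)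
    {J : Finset (Fin n)} (hJ : ∀ l ∈ J, h (col g l) K = 0) {b : Fin n} (hb : b ∈ J)
    (hcard : (vals K (col g b)).card + (supp K)ᶜ.card < J.card + 1) :
    ∃ a ∈ J, a ≠ b ∧ ∃ l ∈ supp K, ∃ r ∈ supp K, col g b l / K l = col g b r / K r ∧
      col g a l / K l ≠ col g a r / K r := by
  classical
  by_contra hno
  push Not at hno
  have hrep : ∀ v : {v // v ∈ vals K (col g b)}, ∃ r ∈ supp K, col g b r / K r = v.1 := fun v => by
    obtain ⟨r, hr, e⟩ := Finset.mem_image.mp v.2; exact ⟨r, hr, e⟩
  choose rep hrepS hrepv using hrep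
  set R : Finset (Fin n) := Finset.univ.image rep with hR
  set W := R ∪ (supp K)ᶜ with hW
  set v : Option {l // l ∈ J} → Vs := fun o => o.elim K fun l => col g l.1 with hv
  have hlin : LinearIndependent F (fun o => (fun x : {x // x ∈ W} => v o x.1)) := by
    rw [Fintype.linearIndependent_iff]
    intro c hc
    set y : Vs := ∑ o, c o • v o with hy
    have hyW : ∀ x ∈ W, y x = 0 := fun x hx => by
      have := congrFun hc ⟨x, hx⟩
      simpa [hy, Finset.sum_apply] using this
    have hy0 : ∀ l, y l = 0 := by
      intro l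
      by_cases hl : l ∈ supp K
      · set r := rep ⟨_, Finset.mem_image_of_mem (fun l => col g b l / K l) hl⟩ with hr
        have hrS : r ∈ supp K := hrepS _
        have hKl : K l ≠ 0 := (Finset.mem_filter.mp hl).2
        have hKr : K r ≠ 0 := (Finset.mem_filter.mp hrS).2
        have e : ∀ o, v o l * K r = v o r * K l := by
          rintro (_ | ⟨a, ha⟩)
          · exact mul_comm _ _
          · show col g a l * K r = col g a r * K l
            have hbl : col g b l / K l = col g b r / K r :=
              (hrepv ⟨_, Finset.mem_image_of_mem (fun l => col g b l / K l) hl⟩).symm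
            rcases eq_or_ne a b with rfl | hab
            · exact (div_eq_div_iff hKl hKr).mp hbl
            · exact (div_eq_div_iff hKl hKr).mp (hno a ha hab l hl r hrS hbl)
        have h1 : y l * K r = y r * K l := by
          simp only [hy, Finset.sum_apply, Pi.smul_apply, smul_eq_mul, Finset.sum_mul]
          exact Finset.sum_congr rfl fun o _ => by rw [mul_assoc, e o, ← mul_assoc]
        rw [hyW r (Finset.mem_union_left _ (Finset.mem_image_of_mem _ (Finset.mem_univ _))), zero_mul] at h1
        exact (mul_eq_zero.mp h1).resolve_right hKr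
      · exact hyW l (Finset.mem_union_right _ (Finset.mem_compl.mpr hl))
    have hyz : y = 0 := funext hy0
    have hsome : ∀ a : {l // l ∈ J}, c (some a) = 0 := fun a => by
      have h1 : h y (col g a.1) = 0 := by rw [hyz, h_zero_left hF]
      rw [hy, herm_sum_left hF, Finset.sum_eq_single (some a) (fun o _ ho => ?_) (by simp)] at h1
      · rw [herm_smul_left hF, show v (some a) = col g a.1 from rfl, h_col hF hH hg, if_pos rfl, mul_one] at h1
        exact h1
      · rw [herm_smul_left hF]
        rcases o with _ | ⟨x, hx⟩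
        · show c none * h K (col g a.1) = 0
          rw [h_symm hF (hJ a.1 a.2), mul_zero]
        · show c (some ⟨x, hx⟩) * h (col g x) (col g a.1) = 0
          rw [h_col hF hH hg, if_neg (fun e => ho (by simp [Subtype.ext_iff, e])), mul_zero]
    rintro (_ | a)
    · have h1 : y = c none • K := by
        rw [hy, Finset.sum_eq_single none (fun o _ ho => ?_) (by simp)]
        · rfl
        · obtain ⟨a, rfl⟩ := Option.ne_none_iff_exists'.mp ho
          rw [hsome, zero_smul]
      exact (smul_eq_zero.mp (h1.symm.trans hyz)).resolve_right hK0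
    · exact hsome a
  have h1 := hlin.fintype_card_le_finrank
  rw [Module.finrank_fintype_fun_eq_card, Fintype.card_option, Fintype.card_coe, Fintype.card_coe] at h1
  have h2 : W.card ≤ (vals K (col g b)).card + (supp K)ᶜ.card := by
    refine (Finset.card_union_le _ _).trans (Nat.add_le_add_right ?_ _)
    refine Finset.card_image_le.trans ?_
    rw [Finset.card_univ, Fintype.card_coe]
  omega

omit [DecidableEq F] in
theorem card_pts_gt [DecidableEq F] {v w K : Vs} {l r : Fin n} (hl : l ∈ supp K) (hr : r ∈ supp K)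
    (he : w l / K l = w r / K r) (hne : v l / K l ≠ v r / K r) : (vals K w).card < (pts K v w).card := by
  rw [show vals K w = (pts K v w).image Prod.snd from by rw [Finset.image_image]; rfl]
  refine lt_of_le_of_ne Finset.card_image_le fun e => hne ?_
  exact congrArg Prod.fst (Finset.injOn_of_card_image_eq e (Finset.mem_image_of_mem _ hl)
    (Finset.mem_image_of_mem _ hr) he)

/-- Four coordinates on which a plane is in general position. -/
theorem exists_plane (hq : 5 ≤ q) {v w K : Vs} (h4 : 4 ≤ (pts K v w).card)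
    (hc : 5 ≤ (pts K v w).card ∨ (vals K w).card < (pts K v w).card) :
    ∃ φ : F, φ * φ ^ q = 1 ∧ ∃ O : Finset (Fin n), O.card = 4 ∧
      ∀ x ∈ O, ∀ y ∈ O, x ≠ y → (v - φ • w) x * K y - (v - φ • w) y * K x ≠ 0 := by
  classical
  have hrep : ∀ p : {p // p ∈ pts K v w}, ∃ r ∈ supp K, (v r / K r, w r / K r) = p.1 := fun p => by
    obtain ⟨r, hr, e⟩ := Finset.mem_image.mp p.2; exact ⟨r, hr, e⟩
  choose rep hrepS hrepv using hrep
  have hrinj : Function.Injective rep := fun p p' e => Subtype.ext (by rw [← hrepv p, ← hrepv p', e])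
  set T : Finset (Fin n) := Finset.univ.image rep with hT
  have hTc : T.card = (pts K v w).card := by
    rw [hT, Finset.card_image_of_injective _ hrinj, Finset.card_univ, Fintype.card_coe]
  obtain ⟨φ, hφ, O, hO, hOc, hsep⟩ := exists_separating hF hq (T := T) (A := fun l => v l / K l)
    (B := fun l => w l / K l) (by omega) (fun a ha b hb e1 e2 => by
      obtain ⟨p, -, rfl⟩ := Finset.mem_image.mp ha
      obtain ⟨p', -, rfl⟩ := Finset.mem_image.mp hb
      have : p = p' := Subtype.ext (by rw [← hrepv p, ← hrepv p']; exact Prod.ext e1 e2)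
      rw [this]) (by
      rcases hc with hc | hc
      · exact Or.inl (by omega)
      · obtain ⟨a, ha, b, hb, hab, e⟩ := Finset.exists_ne_map_eq_of_card_lt_of_maps_to (hTc ▸ hc : (vals K w).card < T.card)
          (f := fun l => w l / K l) (fun l hl => by
            obtain ⟨p, -, rfl⟩ := Finset.mem_image.mp hl
            exact Finset.mem_image_of_mem (fun l => w l / K l) (hrepS p))
        exact Or.inr ⟨a, ha, b, hb, hab, e⟩)
  refine ⟨φ, hφ, O, hOc, fun x hx y hy hxy e => hxy (hsep x hx y hy ?_)⟩
  have hK : ∀ l ∈ O, K l ≠ 0 := fun l hl => by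
    obtain ⟨p, -, rfl⟩ := Finset.mem_image.mp (hO hl)
    exact (Finset.mem_filter.mp (hrepS p)).2
  have hKx := hK x hx
  have hKy := hK y hy
  simp only [Pi.sub_apply, Pi.smul_apply, smul_eq_mul] at e
  field_simp
  linear_combination e

/-- A column with three ratios gives a plane in general position. -/
theorem exists_plane_of_vals (hH : H ≤ suGL n F q) (hq : 5 ≤ q) {g : GL (Fin n) F} (hg : g ∈ H) {K : Vs}
    (hK0 : K ≠ 0) {J : Finset (Fin n)} (hJ : ∀ l ∈ J, h (col g l) K = 0) (hJc : (supp K)ᶜ.card + 4 ≤ J.card)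
    {b : Fin n} (hb : b ∈ J) (h3 : 3 ≤ (vals K (col g b)).card) :
    ∃ a ∈ J, a ≠ b ∧ ∃ φ : F, φ * φ ^ q = 1 ∧ ∃ O : Finset (Fin n), O.card = 4 ∧
      ∀ x ∈ O, ∀ y ∈ O, x ≠ y →
        (col g a - φ • col g b) x * K y - (col g a - φ • col g b) y * K x ≠ 0 := by
  by_cases h5 : 5 ≤ (vals K (col g b)).card
  · obtain ⟨a, ha, hab⟩ := Finset.exists_mem_ne (show 1 < J.card by omega) b
    have hle : (vals K (col g b)).card ≤ (pts K (col g a) (col g b)).card := by
      rw [show vals K (col g b) = (pts K (col g a) (col g b)).image Prod.snd from by rw [Finset.image_image]; rfl]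
      exact Finset.card_image_le
    exact ⟨a, ha, hab, exists_plane hF hq (by omega) (Or.inl (by omega))⟩
  · obtain ⟨a, ha, hab, l, hl, r, hr, he, hne⟩ := exists_refine hF hH hg hK0 hJ hb (by omega)
    have hlt := card_pts_gt hF (v := col g a) hl hr he hne
    exact ⟨a, ha, hab, exists_plane hF hq (by omega) (Or.inr hlt)⟩

/-- A sum over two ratios. -/
theorem sum_two (v w K : Vs) (β γ : F) (hz : ∀ l, K l ≠ 0)
    (hprod : ∀ l, (v l / K l - β) * (w l / K l - γ) ^ q = 0) :
    h v w - γ ^ q * h v K - β * h K w + β * γ ^ q * h K K = 0 := by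
  simp only [Cfsg.hermForm, Finset.mul_sum]
  rw [← Finset.sum_sub_distrib, ← Finset.sum_sub_distrib, ← Finset.sum_add_distrib]
  refine Finset.sum_eq_zero fun l _ => ?_
  have hKl := hz l
  have hKq : K l ^ q ≠ 0 := pow_ne_zero _ hKl
  have e := hprod l
  rw [q_sub hF, div_pow] at e
  have : v l * w l ^ q - γ ^ q * (v l * K l ^ q) - β * (K l * w l ^ q) + β * γ ^ q * (K l * K l ^ q) =
      K l * K l ^ q * ((v l / K l - β) * (w l ^ q / K l ^ q - γ ^ q)) := by
    field_simp; ring
  rw [this, e, mul_zero]

theorem eq_suGL_of_odd_large (hn : n = 6) (hq : 5 ≤ q) (h2 : (2 : F) ≠ 0) (hH : H ≤ suGL n F q)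
    (hM : ContainsMono q H) {g : GL (Fin n) F} (hg : g ∈ H) (hgm : ¬ IsMono g) : H = suGL n F q := by
  classical
  by_contra hK
  have hn6 : 6 ≤ n := by omega
  have hq3 : 3 ≤ q := by omega
  have hcol0 : ∀ l, col g l ≠ 0 := fun l e => by
    have := h_col hF hH hg l l
    rw [e, h_zero_left hF, if_pos rfl] at this
    exact zero_ne_one this
  have hz1 : ∀ l, (supp (col g l))ᶜ.card ≤ 1 := fun l => Finset.card_le_one.mpr fun x hx y hy => by
    by_contra hxy
    simp only [Finset.mem_compl, Finset.mem_filter, Finset.mem_univ, true_and, not_not] at hx hy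
    exact hgm (mono_of_zeros hF hn6 hq3 hH hM hK hg hxy hx hy)
  have hfin : ∀ k b, b ≠ k → (vals (col g k) (col g b)).card ≤ 2 := fun k b hbk => by
    by_contra h3
    obtain ⟨a, ha, hab, φ, hφ, O, hO, hmin⟩ := exists_plane_of_vals hF hH hq hg (hcol0 k)
      (J := Finset.univ.erase k) (fun l hl => by rw [h_col hF hH hg, if_neg (Finset.ne_of_mem_erase hl)])
      (by
        have := hz1 k
        rw [Finset.card_erase_of_mem (Finset.mem_univ k), Finset.card_univ, Fintype.card_fin]
        omega)
      (Finset.mem_erase.mpr ⟨hbk, Finset.mem_univ b⟩) (by omega)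
    exact false_of_odd hF hn hq3 h2 hH hM hK hg hgm hab (Finset.ne_of_mem_erase ha) hbk hφ hO hmin
  -- two equal ratios of one vector are excluded
  have hne2 : ∀ k b, b ≠ k → ∀ β, ∃ l ∈ supp (col g k), col g b l / col g k l ≠ β := by
    intro k b hbk β
    by_contra hall
    push Not at hall
    have hz : ∀ l, col g b l * col g k l ^ q = β * (col g k l * col g k l ^ q) := fun l => by
      by_cases hl : col g k l = 0
      · rw [hl, q_zero hF]; ring
      · have := hall l (mem_supp.mpr hl)
        rw [← this]; field_simp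
    have h1 := h_col hF hH hg b k
    rw [if_neg hbk, Cfsg.hermForm, Finset.sum_congr rfl (fun l _ => hz l), ← Finset.mul_sum] at h1
    have h3 := h_col hF hH hg k k
    rw [if_pos rfl, Cfsg.hermForm] at h3
    rw [h3, mul_one] at h1
    subst h1
    have hsub : supp (col g k) ⊆ (supp (col g b))ᶜ := fun l hl => by
      have := hall l hl
      exact Finset.mem_compl.mpr fun hb => mem_supp.mp hb
        ((div_eq_zero_iff.mp this).resolve_right (mem_supp.mp hl))
    have h4 := Finset.card_le_card hsub
    have h5 := hz1 b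
    have h6 := hz1 k
    have h7 := Finset.card_compl_add_card (supp (col g k))
    rw [Fintype.card_fin] at h7
    omega
  have htwo : ∀ k b, b ≠ k → ∃ β β', β ≠ β' ∧ vals (col g k) (col g b) = {β, β'} := fun k b hbk => by
    refine Finset.card_eq_two.mp (le_antisymm (hfin k b hbk) ?_)
    by_contra hlt
    obtain ⟨l, hl⟩ : (supp (col g k)).Nonempty := by
      rw [← Finset.card_pos]
      have h6 := hz1 k
      have h7 := Finset.card_compl_add_card (supp (col g k))
      rw [Fintype.card_fin] at h7
      omega
    obtain ⟨r, hr, hne⟩ := hne2 k b hbk (col g b l / col g k l)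
    exact hne (Finset.card_le_one.mp (show (vals (col g k) (col g b)).card ≤ 1 by omega) _ (Finset.mem_image_of_mem (fun l => col g b l / col g k l) hr) _
      (Finset.mem_image_of_mem (fun l => col g b l / col g k l) hl))
  by_cases hfree : ∃ k, ∀ l, col g k l ≠ 0
  · obtain ⟨k, hk⟩ := hfree
    obtain ⟨b, -, hbk⟩ := Finset.exists_mem_ne (show 1 < (Finset.univ : Finset (Fin n)).card by simp; omega) k
    obtain ⟨c, -, hc⟩ := Finset.exists_mem_notMem_of_card_lt_card (s := ({k, b} : Finset (Fin n)))
      (t := Finset.univ) (by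
        rw [Finset.card_univ, Fintype.card_fin]; have := Finset.card_le_two (a := k) (b := b); omega)
    simp only [Finset.mem_insert, Finset.mem_singleton, not_or] at hc
    obtain ⟨hck, hcb⟩ := hc
    set K := col g k with hKdef
    have hbk0 : h (col g b) K = 0 := by rw [hKdef, h_col hF hH hg, if_neg hbk]
    have hkb0 : h K (col g b) = 0 := h_symm hF hbk0
    have hck0 : h K (col g c) = 0 := by rw [hKdef, h_col hF hH hg, if_neg (Ne.symm hck)]
    have hkk : h K K = 1 := by rw [hKdef, h_col hF hH hg, if_pos rfl]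
    have hnz : ∀ x, x ≠ k → ∀ β ∈ vals K (col g x), β ≠ 0 := by
      intro x hxk β hβ
      obtain ⟨β₀, β₁, hne, hv⟩ := htwo k x hxk
      rw [← hKdef] at hv
      have hx0 : h (col g x) K = 0 := by rw [hKdef, h_col hF hH hg, if_neg hxk]
      have := sum_two hF (col g x) (col g x) K β₀ β₁ hk (fun l => by
        have : col g x l / K l ∈ vals K (col g x) := Finset.mem_image_of_mem (fun l => col g x l / K l) (mem_supp.mpr (hk l))
        rw [hv, Finset.mem_insert, Finset.mem_singleton] at this
        rcases this with e | e <;> rw [e] <;> simp [sub_self, q_zero hF])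
      rw [hx0, h_symm hF hx0, hkk, h_col hF hH hg, if_pos rfl] at this
      rw [hv, Finset.mem_insert, Finset.mem_singleton] at hβ
      intro e
      rcases hβ with rfl | rfl <;> rw [e] at this <;> simp [q_zero hF] at this
    by_cases h4 : 4 ≤ (pts K (col g c) (col g b)).card
    · obtain ⟨φ, hφ, O, hO, hmin⟩ := exists_plane hF hq h4 (Or.inr (lt_of_le_of_lt (hfin k b hbk) (by omega)))
      exact false_of_odd hF hn hq3 h2 hH hM hK hg hgm hcb hck hbk hφ hO hmin
    · obtain ⟨β₀, β₁, hβ, hvb⟩ := htwo k b hbk
      obtain ⟨γ₀, γ₁, hγ, hvc⟩ := htwo k c hck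
      rw [← hKdef] at hvb hvc
      obtain ⟨⟨γ, β⟩, hmem, hnot⟩ := Finset.exists_mem_notMem_of_card_lt_card
        (s := pts K (col g c) (col g b)) (t := ({γ₀, γ₁} : Finset F) ×ˢ ({β₀, β₁} : Finset F)) (by
          rw [Finset.card_product, Finset.card_pair hγ, Finset.card_pair hβ]; omega)
      rw [Finset.mem_product] at hmem
      obtain ⟨γ', hγ', hγne⟩ := Finset.exists_mem_ne (show 1 < ({γ₀, γ₁} : Finset F).card by rw [Finset.card_pair hγ]; omega) γ
      obtain ⟨β', hβ', hβne⟩ := Finset.exists_mem_ne (show 1 < ({β₀, β₁} : Finset F).card by rw [Finset.card_pair hβ]; omega) β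
      have := sum_two hF (col g b) (col g c) K β' γ' hk (fun l => by
        have hl : l ∈ supp K := mem_supp.mpr (hk l)
        have h1 : col g b l / K l ∈ vals K (col g b) := Finset.mem_image_of_mem (fun l => col g b l / K l) hl
        have h3 : col g c l / K l ∈ vals K (col g c) := Finset.mem_image_of_mem (fun l => col g c l / K l) hl
        rw [hvb] at h1
        rw [hvc] at h3
        by_cases e1 : col g b l / K l = β'
        · rw [e1, sub_self, zero_mul]
        by_cases e2 : col g c l / K l = γ'
        · rw [e2, sub_self, q_zero hF, mul_zero]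
        exfalso
        have o1 : col g b l / K l = β := by
          simp only [Finset.mem_insert, Finset.mem_singleton] at h1 hβ' hmem; grind
        have o2 : col g c l / K l = γ := by
          simp only [Finset.mem_insert, Finset.mem_singleton] at h3 hγ' hmem; grind
        exact hnot (Finset.mem_image.mpr ⟨l, hl, by rw [o1, o2]⟩))
      rw [h_col hF hH hg, if_neg (Ne.symm hcb), hbk0, hck0, hkk] at this
      exact mul_ne_zero (hnz b hbk β' (hvb ▸ hβ')) (pow_ne_zero q (hnz c hck γ' (hvc ▸ hγ')))
        (by linear_combination this)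
  · push Not at hfree
    choose zr hzr using hfree
    have hzinj : Function.Injective zr := fun x y e =>
      row_unique hF hn6 hq3 hH hM hK hg hgm (hzr x) (e ▸ hzr y)
    set k : Fin n := ⟨0, by omega⟩ with hk
    set K := col g k with hKdef
    have hone : ∀ b, b ≠ k → K (zr b) * K (zr b) ^ q = 1 := by
      intro b hb
      have hKz : ∀ x, K x = 0 → x = zr k := fun x hx => by
        by_contra e
        exact hgm (mono_of_zeros hF hn6 hq3 hH hM hK hg e hx (hzr k))
      have hKb : K (zr b) ≠ 0 := fun e => hb (hzinj (hKz _ e))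
      obtain ⟨β₀, β₁, hne, hv⟩ := htwo k b hb
      rw [← hKdef] at hv
      have h0 : (0 : F) ∈ vals K (col g b) :=
        Finset.mem_image.mpr ⟨zr b, mem_supp.mpr hKb, by rw [hzr b, zero_div]⟩
      rw [hv, Finset.mem_insert, Finset.mem_singleton] at h0
      obtain ⟨β, hβ0, hval⟩ : ∃ β, β ≠ 0 ∧ ∀ l, K l ≠ 0 → l ≠ zr b → col g b l = β * K l := by
        have hg0 : ∀ l, l ≠ zr b → col g b l ≠ 0 := fun l hl e =>
          hgm (mono_of_zeros hF hn6 hq3 hH hM hK hg hl e (hzr b))
        rcases h0 with e | e
        · refine ⟨β₁, fun e' => hne (e.symm.trans e'.symm), fun l hl hlz => ?_⟩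
          have : col g b l / K l ∈ vals K (col g b) := Finset.mem_image_of_mem (fun l => col g b l / K l) (mem_supp.mpr hl)
          rw [hv, Finset.mem_insert, Finset.mem_singleton, ← e] at this
          have := this.resolve_left (div_ne_zero (hg0 l hlz) hl)
          rw [← this, div_mul_cancel₀ _ hl]
        · refine ⟨β₀, fun e' => hne (e'.trans e), fun l hl hlz => ?_⟩
          have : col g b l / K l ∈ vals K (col g b) := Finset.mem_image_of_mem (fun l => col g b l / K l) (mem_supp.mpr hl)
          rw [hv, Finset.mem_insert, Finset.mem_singleton, ← e] at this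
          have := this.resolve_right (div_ne_zero (hg0 l hlz) hl)
          rw [← this, div_mul_cancel₀ _ hl]
      have h1 := h_col hF hH hg b k
      rw [if_neg hb, Cfsg.hermForm, ← Finset.add_sum_erase _ _ (Finset.mem_univ (zr b)), hzr b, zero_mul, zero_add,
        ← hKdef, Finset.sum_congr rfl (g := fun l => β * (K l * K l ^ q)) (fun l hl => by
          by_cases hl0 : K l = 0
          · simp [hl0, q_zero hF]
          · rw [hval l hl0 (Finset.ne_of_mem_erase hl)]; ring), ← Finset.mul_sum] at h1
      have h3 := (mul_eq_zero.mp h1).resolve_left hβ0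
      have h4 := h_col hF hH hg k k
      rw [if_pos rfl, Cfsg.hermForm, ← Finset.add_sum_erase _ _ (Finset.mem_univ (zr b)), ← hKdef, h3, add_zero] at h4
      exact h4
    let σ := Equiv.ofBijective zr (Finite.injective_iff_bijective.mp hzinj)
    have h4 := h_col hF hH hg k k
    rw [if_pos rfl, Cfsg.hermForm, ← hKdef, ← Equiv.sum_comp σ, ← Finset.add_sum_erase _ _ (Finset.mem_univ k),
      Finset.sum_congr rfl (g := fun _ => (1 : F)) (fun b hb => show K (σ b) * K (σ b) ^ q = 1 from hone b (Finset.ne_of_mem_erase hb)),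
      show σ k = zr k from rfl, show K (zr k) = 0 from hzr k, zero_mul, zero_add, Finset.sum_const,
      Finset.card_erase_of_mem (Finset.mem_univ k), Finset.card_univ, Fintype.card_fin, hn] at h4
    simp at h4
    exact h2 (mul_self_eq_zero.mp (show (2 : F) * 2 = 0 by linear_combination h4))

end Cfsg.Agent.Lib.UnitaryFrameSix
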